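import Cfsg.Agent.Lib.Lie.Chev.Tw.BNPair
import Cfsg.Agent.Lib.Lie.Chev.Tw.Card
import Cfsg.Agent.Lib.Lie.Chev.SylowU
import Cfsg.Agent.Lib.Lie.BN
import Mathlib.GroupTheory.Nilpotent

/-!
# Automorphisms of a twisted group: the two opposite unipotent subgroups
-/

set_option autoImplicit false

namespace CfsgLib.Lie.Chev

open Cfsg.Lie
open scoped MatrixGroups

variable {D : ChevalleyDatum} {K : Type*} [Field K] {C : Full D} {T : Twist C.G K} {ι : Type}

namespace TwGp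

variable {O : Orbits C.G T.p ι} {Γ : Subgroup (GL D.Idx K)} (P : TwGp O Γ)

/-- the positive unipotent part -/
noncomputable def gU (_ : TwGp O Γ) : Subgroup ↥Γ := (D.posUnipotent K).subgroupOf Γ

/-- the negative unipotent part -/
noncomputable def gV (_ : TwGp O Γ) : Subgroup ↥Γ := (D.negUnipotent K).subgroupOf Γ

/-- the Borel part -/
noncomputable def gB (_ : TwGp O Γ) : Subgroup ↥Γ := (D.borelSubgroup K).subgroupOf Γ

/-- the torus part -/
noncomputable def gH (_ : TwGp O Γ) : Subgroup ↥Γ := (D.diagonalSubgroup K).subgroupOf Γ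

theorem bnPair_B : P.bnPair.B = P.gB := by
  ext x
  simp [TwGp.bnPair, gB, Subgroup.mem_subgroupOf, Subgroup.mem_inf]

theorem mem_N_iff {x : ↥Γ} : x ∈ P.bnPair.N ↔ (x : GL D.Idx K) ∈ D.monomialSubgroup K := by
  simp [TwGp.bnPair, Subgroup.mem_subgroupOf, Subgroup.mem_inf]

theorem gU_le_gB : P.gU ≤ P.gB := fun _ h => Subgroup.mem_sup_left h

theorem gH_le_gB : P.gH ≤ P.gB := fun _ h => Subgroup.mem_sup_right h

theorem gB_inf_gV : P.gB ⊓ P.gV = ⊥ := by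
  refine eq_bot_iff.2 fun g hg => Subgroup.mem_bot.2 (Subtype.ext ?_)
  exact Subgroup.mem_bot.1 (C.G.B_inf_V (K := K) ▸ Subgroup.mem_inf.2 hg)

theorem mem_gB_iff {g : ↥Γ} : g ∈ P.gB ↔ ∃ u ∈ P.gU, ∃ h ∈ P.gH, g = u * h := by
  constructor
  · intro hg
    obtain ⟨v, hv, d, hd, e⟩ := T.fix_borel (P.le g.2) hg
    exact ⟨⟨v, P.toPre.U_le hv⟩, hv.2, ⟨d, P.H_le hd⟩, hd.2, Subtype.ext e⟩
  · rintro ⟨u, hu, h, hh, rfl⟩
    exact mul_mem (P.gU_le_gB hu) (P.gH_le_gB hh)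

theorem gH_normalizes_gU : P.gH ≤ Subgroup.normalizer (P.gU : Set ↥Γ) := by
  intro h hh
  rw [Subgroup.mem_normalizer_iff]
  intro x
  exact Subgroup.mem_normalizer_iff.1 (C.G.H_normalizes_U (K := K) hh) (x : GL D.Idx K)

theorem gH_normalizes_gV : P.gH ≤ Subgroup.normalizer (P.gV : Set ↥Γ) := by
  intro h hh
  rw [Subgroup.mem_normalizer_iff]
  intro x
  exact Subgroup.mem_normalizer_iff.1 (C.G.H_normalizes_V (K := K) hh) (x : GL D.Idx K)

theorem exists_perm {n : ↥Γ} (hn : n ∈ P.bnPair.N) :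
    ∃ π ∈ Wp C.G T.p, C.G.NPerm (n : GL D.Idx K) π := by
  rw [P.mem_N_iff] at hn
  obtain ⟨l, hl⟩ := C.G.exists_nPerm hn
  exact ⟨_, T.mem_Wp_of_fix (P.le n.2) hn hl, hl⟩

theorem mem_gH_of_perm_one {n : ↥Γ} (hn : n ∈ P.bnPair.N)
    (h : C.G.NPerm (n : GL D.Idx K) 1) : n ∈ P.gH :=
  C.G.mem_H_of_nPerm_one (P.mem_N_iff.1 hn) h

include P in
/-- a nontrivial element of the twisted Weyl group moves some orbit group into `V` -/
theorem exists_flip {π : Equiv.Perm (Fin D.nroots)} (hπ : π ∈ Wp C.G T.p) (h1 : π ≠ 1) :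
    ∃ x ∈ Γ, x ≠ 1 ∧ x ∈ D.posUnipotent K ∧ x ∈ (Uinv C.G π : Subgroup (GL D.Idx K)) := by
  obtain ⟨k, hk⟩ := O.exists_neg hπ h1
  obtain ⟨x, hx, hx1⟩ := P.X_ne k
  refine ⟨x, P.toPre.X_le k hx, hx1, C.G.Uinv_le _ hx.2, ?_⟩
  obtain ⟨l, rfl⟩ := C.G.exists_pw (mem_Wp.1 hπ).1
  refine Subgroup.closure_mono ?_ hx.2
  rintro g ⟨r, t, ⟨hr, hneg⟩, rfl⟩
  exact ⟨r, t, ⟨hr, C.G.neg_posJ hk (not_not.1 fun h => hneg ((O.wO_pos_iff hr).2 h)) hr⟩, rfl⟩

theorem normalizer_gU : Subgroup.normalizer (P.gU : Set ↥Γ) = P.gB := by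
  have hBN : P.gB ≤ Subgroup.normalizer (P.gU : Set ↥Γ) := by
    intro x hx
    obtain ⟨u, hu, h, hh, rfl⟩ := P.mem_gB_iff.1 hx
    exact mul_mem (Subgroup.le_normalizer hu) (P.gH_normalizes_gU hh)
  refine le_antisymm (fun g hg => ?_) hBN
  obtain ⟨n, hn, hgn⟩ := BN.exists_cell P.bnPair g
  obtain ⟨b, hb, c, hc, rfl⟩ := (BN.mem_cell _).1 hgn
  rw [P.bnPair_B] at hb hc
  obtain ⟨π, hπW, hπ⟩ := P.exists_perm hn
  have hnN : n ∈ Subgroup.normalizer (P.gU : Set ↥Γ) := by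
    have := mul_mem (mul_mem (inv_mem (hBN hb)) hg) (inv_mem (hBN hc))
    simpa [mul_assoc] using this
  have h1 : π = 1 := by
    by_contra h1
    obtain ⟨x, hx, hx1, hxU, hxI⟩ := P.exists_flip hπW h1
    have h2 : n * ⟨x, hx⟩ * n⁻¹ ∈ P.gU :=
      (Subgroup.mem_normalizer_iff.1 hnN ⟨x, hx⟩).1 hxU
    have h3 : n * ⟨x, hx⟩ * n⁻¹ = 1 := Subgroup.mem_bot.1
      (P.gB_inf_gV ▸ Subgroup.mem_inf.2 ⟨P.gU_le_gB h2, C.G.conj_Uinv hπ x hxI⟩)
    exact hx1 (congrArg Subtype.val (conj_eq_one_iff.1 h3))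
  subst h1
  exact mul_mem (mul_mem hb (P.gH_le_gB (P.mem_gH_of_perm_one hn hπ))) hc

/-! ### the longest element -/

variable (T) in
/-- the longest element of the twisted Weyl group -/
noncomputable def wMax : Equiv.Perm (Fin D.nroots) := T.exists_longest_Wp.choose

variable (T) in
theorem wMax_mem : wMax T ∈ Wp C.G T.p := T.exists_longest_Wp.choose_spec.1

variable (T) in
theorem wMax_pos_iff (r : Fin D.nroots) :
    D.IsPosRoot (wMax T r).val ↔ ¬ D.IsPosRoot r.val := by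
  refine ⟨fun h hr => T.exists_longest_Wp.choose_spec.2 r hr h, fun hr => ?_⟩
  have h := T.exists_longest_Wp.choose_spec.2 _ ((C.G.negr_pos_iff r).2 hr)
  rw [C.G.Wg_negr (mem_Wp.1 T.exists_longest_Wp.choose_spec.1).1, C.G.negr_pos_iff, not_not] at h
  exact h

/-- a representative of the longest element -/
noncomputable def mMax : ↥Γ :=
  ⟨(P.toPre.exists_n (wMax_mem T)).choose,
    (P.toPre.closure_nk_le (P.toPre.exists_n (wMax_mem T)).choose_spec.1).1⟩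

theorem mMax_mem : P.mMax ∈ P.bnPair.N :=
  P.mem_N_iff.2 (P.toPre.closure_nk_le (P.toPre.exists_n (wMax_mem T)).choose_spec.1).2

theorem mMax_perm : C.G.NPerm (P.mMax : GL D.Idx K) (wMax T) :=
  (P.toPre.exists_n (wMax_mem T)).choose_spec.2

omit T O P in
theorem conj_closure {n : GL D.Idx K} {π : Equiv.Perm (Fin D.nroots)} (hn : C.G.NPerm n π)
    (A B : Fin D.nroots → Prop) (h : ∀ r, A r → B (π r)) {g : GL D.Idx K}
    (hg : g ∈ Subgroup.closure {g : GL D.Idx K | ∃ r t, A r ∧ g = C.G.xu r t}) :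
    n * g * n⁻¹ ∈ Subgroup.closure {g : GL D.Idx K | ∃ r t, B r ∧ g = C.G.xu r t} := by
  induction hg using Subgroup.closure_induction with
  | one => simp
  | mul a b _ _ ha hb =>
    rw [show n * (a * b) * n⁻¹ = (n * a * n⁻¹) * (n * b * n⁻¹) by group]; exact mul_mem ha hb
  | inv a _ ha => rw [show n * a⁻¹ * n⁻¹ = (n * a * n⁻¹)⁻¹ by group]; exact inv_mem ha
  | mem x hx =>
    obtain ⟨r, t, hr, rfl⟩ := hx
    obtain ⟨c, hc⟩ := hn r
    rw [hc]
    exact Subgroup.subset_closure ⟨π r, _, h r hr, rfl⟩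

theorem mem_gV_iff (z : ↥Γ) : P.mMax * z * P.mMax⁻¹ ∈ P.gV ↔ z ∈ P.gU := by
  have hiff : ∀ r, D.IsPosRoot (wMax T r).val ↔ ¬ D.IsPosRoot r.val := wMax_pos_iff T
  constructor
  · intro h
    have h' : ((P.mMax * z * P.mMax⁻¹ : ↥Γ) : GL D.Idx K) ∈ D.negUnipotent K := h
    rw [C.G.negUnipotent_eq_closure] at h'
    have h2 := conj_closure (C := C) (Good.NPerm.inv C.G P.mMax_perm) _
      (fun r => D.IsPosRoot r.val) (fun r hr => by
        by_contra hne
        have := (hiff ((wMax T)⁻¹ r)).2 hne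
        rw [show wMax T ((wMax T)⁻¹ r) = r from (wMax T).apply_symm_apply r] at this
        exact (C.G.isNegRoot_iff_not_pos r).1 hr this) h'
    rw [← C.G.posUnipotent_eq_closure] at h2
    show (z : GL D.Idx K) ∈ D.posUnipotent K
    simpa [mul_assoc] using h2
  · intro h
    have h' : (z : GL D.Idx K) ∈ D.posUnipotent K := h
    rw [C.G.posUnipotent_eq_closure] at h'
    have h2 := conj_closure (C := C) P.mMax_perm _ (fun r => D.IsNegRoot r.val)
      (fun r hr => (C.G.isNegRoot_iff_not_pos _).2 fun hp => (hiff r).1 hp hr) h'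
    rw [← C.G.negUnipotent_eq_closure] at h2
    exact h2

theorem mem_gU_iff (z : ↥Γ) : P.mMax * z * P.mMax⁻¹ ∈ P.gU ↔ z ∈ P.gV := by
  have hiff : ∀ r, D.IsPosRoot (wMax T r).val ↔ ¬ D.IsPosRoot r.val := wMax_pos_iff T
  constructor
  · intro h
    have h' : ((P.mMax * z * P.mMax⁻¹ : ↥Γ) : GL D.Idx K) ∈ D.posUnipotent K := h
    rw [C.G.posUnipotent_eq_closure] at h'
    have h2 := conj_closure (C := C) (Good.NPerm.inv C.G P.mMax_perm) _
      (fun r => D.IsNegRoot r.val) (fun r hr => (C.G.isNegRoot_iff_not_pos _).2 fun hp => by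
        have := (hiff ((wMax T)⁻¹ r))
        rw [show wMax T ((wMax T)⁻¹ r) = r from (wMax T).apply_symm_apply r] at this
        exact this.1 hr hp) h'
    rw [← C.G.negUnipotent_eq_closure] at h2
    show (z : GL D.Idx K) ∈ D.negUnipotent K
    simpa [mul_assoc] using h2
  · intro h
    have h' : (z : GL D.Idx K) ∈ D.negUnipotent K := h
    rw [C.G.negUnipotent_eq_closure] at h'
    have h2 := conj_closure (C := C) P.mMax_perm _ (fun r => D.IsPosRoot r.val)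
      (fun r hr => (hiff r).2 ((C.G.isNegRoot_iff_not_pos r).1 hr)) h'
    rw [← C.G.posUnipotent_eq_closure] at h2
    exact h2

theorem map_gU : P.gU.map (MulAut.conj P.mMax).toMonoidHom = P.gV := by
  ext x
  rw [Subgroup.mem_map_equiv, MulAut.conj_symm_apply, ← P.mem_gV_iff]
  simp [mul_assoc]

theorem map_gV : P.gV.map (MulAut.conj P.mMax).toMonoidHom = P.gU := by
  ext x
  rw [Subgroup.mem_map_equiv, MulAut.conj_symm_apply, ← P.mem_gU_iff]
  simp [mul_assoc]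

omit T O P in
theorem map_conj_mul {G : Type*} [Group G] (a b : G) (X : Subgroup G) :
    X.map (MulAut.conj (a * b)).toMonoidHom =
      (X.map (MulAut.conj b).toMonoidHom).map (MulAut.conj a).toMonoidHom := by
  rw [Subgroup.map_map]
  congr 1
  ext x
  simp [mul_assoc]

omit T O P in
theorem map_conj_of_normalizer {G : Type*} [Group G] {a : G} {X : Subgroup G}
    (ha : a ∈ Subgroup.normalizer (X : Set G)) : X.map (MulAut.conj a).toMonoidHom = X := by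
  ext x
  rw [Subgroup.mem_map_equiv, MulAut.conj_symm_apply]
  exact (Subgroup.mem_normalizer_iff''.1 ha x).symm

/-- a conjugate of `U` meeting `U` trivially is a conjugate of `V` by an element of `U` -/
theorem exists_conj_gV {g : ↥Γ} (h : P.gU.map (MulAut.conj g).toMonoidHom ⊓ P.gU = ⊥) :
    ∃ u ∈ P.gU, P.gU.map (MulAut.conj g).toMonoidHom =
      P.gV.map (MulAut.conj u).toMonoidHom := by
  obtain ⟨n, hn, hgn⟩ := BN.exists_cell P.bnPair g
  obtain ⟨b, hb, c, hc, rfl⟩ := (BN.mem_cell _).1 hgn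
  rw [P.bnPair_B] at hb hc
  obtain ⟨π, hπW, hπ⟩ := P.exists_perm hn
  have hbN : b ∈ Subgroup.normalizer (P.gU : Set ↥Γ) := by rw [P.normalizer_gU]; exact hb
  have hcU : P.gU.map (MulAut.conj c).toMonoidHom = P.gU :=
    map_conj_of_normalizer (by rw [P.normalizer_gU]; exact hc)
  have hπ0 : π = wMax T := by
    by_contra hne
    have h1 : (wMax T)⁻¹ * π ≠ 1 := fun e => hne (inv_mul_eq_one.1 e).symm
    obtain ⟨x, hx, hx1, hxU, hxI⟩ := P.exists_flip (mul_mem (inv_mem (wMax_mem T)) hπW) h1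
    -- `n` keeps `x` positive, as the product with the longest element flips it
    have h2 := C.G.conj_Uinv (Good.NPerm.mul C.G (Good.NPerm.inv C.G P.mMax_perm) hπ) x hxI
    have h3 : n * ⟨x, hx⟩ * n⁻¹ ∈ P.gU := by
      rw [show n * ⟨x, hx⟩ * n⁻¹ = P.mMax * ((P.mMax⁻¹ * n) * ⟨x, hx⟩ * (P.mMax⁻¹ * n)⁻¹) * P.mMax⁻¹
        by group, P.mem_gU_iff]
      exact h2
    have h4 : b * (n * ⟨x, hx⟩ * n⁻¹) * b⁻¹ ∈
        P.gU.map (MulAut.conj (b * n * c)).toMonoidHom ⊓ P.gU := by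
      refine ⟨?_, (Subgroup.mem_normalizer_iff.1 hbN _).1 h3⟩
      rw [map_conj_mul, hcU]
      exact ⟨⟨x, hx⟩, hxU, by simp [mul_assoc]⟩
    rw [h, Subgroup.mem_bot, conj_eq_one_iff, conj_eq_one_iff] at h4
    exact hx1 (congrArg Subtype.val h4)
  subst hπ0
  have hh : P.mMax⁻¹ * n ∈ P.gH := by
    refine P.mem_gH_of_perm_one (mul_mem (inv_mem P.mMax_mem) hn) ?_
    have := Good.NPerm.mul C.G (Good.NPerm.inv C.G P.mMax_perm) hπ
    rwa [inv_mul_cancel] at this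
  obtain ⟨u, hu, d, hdH, rfl⟩ := P.mem_gB_iff.1 hb
  refine ⟨u, hu, ?_⟩
  rw [map_conj_mul, hcU, show n = P.mMax * (P.mMax⁻¹ * n) by group, ← mul_assoc, map_conj_mul,
    map_conj_of_normalizer (P.gH_normalizes_gU hh), map_conj_mul, P.map_gU, map_conj_mul,
    map_conj_of_normalizer (P.gH_normalizes_gV hdH)]

theorem gB_inf_normalizer_gV : P.gB ⊓ Subgroup.normalizer (P.gV : Set ↥Γ) = P.gH := by
  refine le_antisymm ?_ (le_inf P.gH_le_gB P.gH_normalizes_gV)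
  rintro x ⟨hx, hxN⟩
  obtain ⟨u, hu, d, hdH, rfl⟩ := P.mem_gB_iff.1 hx
  have huN : u ∈ Subgroup.normalizer (P.gV : Set ↥Γ) := by
    simpa using Subgroup.mul_mem _ hxN (Subgroup.inv_mem _ (P.gH_normalizes_gV hdH))
  set m := P.mMax
  have hb : m⁻¹ * u * m ∈ P.gB := by
    rw [← P.normalizer_gU, Subgroup.mem_normalizer_iff]
    intro y
    rw [← P.mem_gV_iff y, ← P.mem_gV_iff (m⁻¹ * u * m * y * (m⁻¹ * u * m)⁻¹),
      Subgroup.mem_normalizer_iff.1 huN]
    simp [m, mul_assoc]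
  obtain ⟨v, hv, e, he, heq⟩ := P.mem_gB_iff.1 hb
  have h1 : u = (m * v * m⁻¹) * (m * e * m⁻¹) := by
    calc u = m * (m⁻¹ * u * m) * m⁻¹ := by group
      _ = _ := by rw [heq]; group
  have h2 : m * e * m⁻¹ ∈ P.gH :=
    (Subgroup.mem_normalizer_iff.1
      (C.G.monomial_le_normalizer (P.mem_N_iff.1 P.mMax_mem)) _).1 he
  have h3 : m * v * m⁻¹ ∈ P.gV := (P.mem_gV_iff v).2 hv
  have h4 : (u : GL D.Idx K) ∈ D.borelSubgroup K ⊓ (D.negUnipotent K ⊔ D.diagonalSubgroup K) := by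
    refine ⟨P.gU_le_gB hu, ?_⟩
    rw [h1, Subgroup.coe_mul]
    exact mul_mem (Subgroup.mem_sup_left h3) (Subgroup.mem_sup_right h2)
  rw [C.G.B_inf_VH] at h4
  exact mul_mem h4 hdH

variable [Fintype K] (p : ℕ) [Fact p.Prime] [CharP K p]

include P in
theorem gU_isPGroup : IsPGroup p ↥P.gU := by
  obtain ⟨n, -, hcard⟩ := FiniteField.card K p
  have hUc : IsPGroup p ↥(D.posUnipotent K) :=
    IsPGroup.of_card (n := (n : ℕ) * (D.nroots / 2)) (by rw [C.posUnipotent_card, hcard, pow_mul])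
  refine IsPGroup.of_injective hUc
    ({ toFun := fun x => ⟨((x : ↥Γ) : GL D.Idx K), x.2⟩
       map_one' := rfl
       map_mul' := fun _ _ => rfl } : ↥P.gU →* ↥(D.posUnipotent K)) fun a b h => ?_
  exact Subtype.ext (Subtype.ext (congrArg (fun z : ↥(D.posUnipotent K) => (z : GL D.Idx K)) h))

theorem exists_sylow : ∃ Q : Sylow p ↥Γ, (Q : Subgroup ↥Γ) = P.gU := by
  classical
  haveI : Finite (GL D.Idx K) := inferInstance
  obtain ⟨Q, hQ⟩ := (P.gU_isPGroup p).exists_le_sylow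
  refine ⟨Q, le_antisymm ?_ hQ⟩
  by_contra hne
  have hlt : P.gU.subgroupOf (Q : Subgroup ↥Γ) < ⊤ := by
    refine lt_top_iff_ne_top.2 fun e => hne ?_
    rwa [Subgroup.subgroupOf_eq_top] at e
  haveI : Group.IsNilpotent ↥(Q : Subgroup ↥Γ) := Q.isPGroup'.isNilpotent
  obtain ⟨x, hxN, hxU⟩ := SetLike.exists_of_lt
    (Group.normalizerCondition_of_isNilpotent (P.gU.subgroupOf (Q : Subgroup ↥Γ)) hlt)
  have hxN' : (x : ↥Γ) ∈ Subgroup.normalizer (P.gU : Set ↥Γ) := by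
    rw [Subgroup.mem_normalizer_iff]
    intro y
    constructor
    · intro hy
      exact (Subgroup.mem_normalizer_iff.1 hxN ⟨y, hQ hy⟩).1 hy
    · intro hy
      have hyQ : y ∈ (Q : Subgroup ↥Γ) := by
        have := mul_mem (mul_mem (inv_mem x.2) (hQ hy)) x.2
        simpa [mul_assoc] using this
      exact (Subgroup.mem_normalizer_iff.1 hxN ⟨y, hyQ⟩).2 hy
  rw [P.normalizer_gU] at hxN'
  obtain ⟨u, hu, h, hh, e⟩ := P.mem_gB_iff.1 hxN'
  have hhQ : h ∈ (Q : Subgroup ↥Γ) := by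
    have := mul_mem (inv_mem (hQ hu)) x.2
    rwa [e, inv_mul_cancel_left] at this
  obtain ⟨j, hj⟩ := Q.isPGroup' ⟨h, hhQ⟩
  have h1 : orderOf (h : GL D.Idx K) ∣ p ^ j := by
    refine orderOf_dvd_of_pow_eq_one ?_
    exact congrArg (fun z : ↥(Q : Subgroup ↥Γ) => ((z : ↥Γ) : GL D.Idx K)) hj
  have h2 : orderOf (h : GL D.Idx K) ∣ (Fintype.card K - 1) ^ D.rank := by
    refine dvd_trans ?_ (C.card_diagonal_dvd (F := K))
    have hh' : (h : GL D.Idx K) ∈ D.diagonalSubgroup K := hh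
    rw [← Subgroup.orderOf_mk _ hh']
    exact orderOf_dvd_natCard _
  have hco : Nat.Coprime (p ^ j) ((Fintype.card K - 1) ^ D.rank) := by
    refine Nat.Coprime.pow _ _ ((Nat.Prime.coprime_iff_not_dvd Fact.out).2 fun hd => ?_)
    obtain ⟨n, -, hcard⟩ := FiniteField.card K p
    have hpq : p ∣ Fintype.card K := hcard ▸ dvd_pow_self _ n.ne_zero
    have h4 : p ∣ Fintype.card K - (Fintype.card K - 1) := Nat.dvd_sub hpq hd
    rw [Nat.sub_sub_self (Fintype.card_pos (α := K))] at h4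
    exact (Fact.out : p.Prime).one_lt.ne' (Nat.dvd_one.1 h4)
  have h3 : h = 1 := by
    refine Subtype.ext ?_
    rw [Subgroup.coe_one, ← orderOf_eq_one_iff]
    exact Nat.eq_one_of_dvd_coprimes hco h1 h2
  rw [h3, mul_one] at e
  exact hxU (e ▸ hu : (x : ↥Γ) ∈ P.gU)

omit p in
theorem exists_opposite (θ : MulAut ↥Γ) : ∃ x : ↥Γ,
    P.gU.map (θ.trans (MulAut.conj x)).toMonoidHom = P.gU ∧
      P.gV.map (θ.trans (MulAut.conj x)).toMonoidHom = P.gV := by
  classical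
  obtain ⟨p, _⟩ := CharP.exists K
  haveI : Fact p.Prime := ⟨CharP.char_is_prime K p⟩
  haveI : Finite (GL D.Idx K) := inferInstance
  obtain ⟨Q, hQ⟩ := P.exists_sylow p
  obtain ⟨x₁, hx₁⟩ := MulAction.exists_smul_eq ↥Γ (Q.mapSurjective (f := θ.toMonoidHom) θ.surjective) Q
  set θ₁ : MulAut ↥Γ := θ.trans (MulAut.conj x₁)
  have hU₁ : P.gU.map θ₁.toMonoidHom = P.gU := by
    have h := congrArg (fun R : Sylow p ↥Γ => (R : Subgroup ↥Γ)) hx₁
    simp only [Sylow.coe_subgroup_smul, Sylow.coe_mapSurjective, hQ, Subgroup.pointwise_smul_def] at h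
    conv_rhs => rw [← h]
    show _ = ((Q : Subgroup ↥Γ).map θ.toMonoidHom).map _
    rw [hQ]
    exact (Subgroup.map_map P.gU (MulAut.conj x₁).toMonoidHom θ.toMonoidHom).symm
  set g := θ₁ P.mMax
  have hV₁ : P.gV.map θ₁.toMonoidHom = P.gU.map (MulAut.conj g).toMonoidHom := by
    conv_rhs => rw [← hU₁]
    rw [← P.map_gU, Subgroup.map_map, Subgroup.map_map]
    congr 1
    ext y
    simp [g]
  have hdisj : P.gU.map (MulAut.conj g).toMonoidHom ⊓ P.gU = ⊥ := by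
    rw [← hV₁]
    conv_lhs => rw [← hU₁]
    rw [← Subgroup.map_inf _ _ _ θ₁.injective, inf_comm, eq_bot_iff]
    rintro _ ⟨y, ⟨hy1, hy2⟩, rfl⟩
    have : y = 1 := Subgroup.mem_bot.1 (P.gB_inf_gV ▸ ⟨P.gU_le_gB hy1, hy2⟩)
    simp [this]
  obtain ⟨u, hu, hue⟩ := P.exists_conj_gV hdisj
  have e : θ.trans (MulAut.conj (u⁻¹ * x₁)) = θ₁.trans (MulAut.conj u⁻¹) := by
    ext y; simp [θ₁, mul_assoc]
  refine ⟨u⁻¹ * x₁, ?_, ?_⟩ <;>
    rw [e, show (θ₁.trans (MulAut.conj u⁻¹)).toMonoidHom =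
      (MulAut.conj u⁻¹).toMonoidHom.comp θ₁.toMonoidHom from rfl, ← Subgroup.map_map]
  · rw [hU₁]
    exact map_conj_of_normalizer (Subgroup.le_normalizer (inv_mem hu))
  · rw [hV₁, hue, ← map_conj_mul, inv_mul_cancel, map_one]
    exact Subgroup.map_id _

end TwGp

end CfsgLib.Lie.Chev
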