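import Cfsg.Agent.Lib.Lie.Chev.Tw.Out.ParPerm
import Cfsg.Agent.Lib.Lie.Chev.AutNorm
import Cfsg.Agent.Lib.Lie.Chev.AutSym

/-!
# Normal form of the automorphisms of a twisted group
-/

set_option autoImplicit false
set_option maxHeartbeats 400000

namespace CfsgLib.Lie.Chev

open Cfsg.Lie
open scoped MatrixGroups

variable {D : ChevalleyDatum} {K : Type*} [Field K] {C : Full D} {T : Twist C.G K} {ι : Type}
  {O : Orbits C.G T.p ι} {Γ : Subgroup (GL D.Idx K)}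

namespace TwPar

variable {P : TwGp O Γ} (Q : TwPar P)

/-- the representative of the longest element of an orbit, in the group -/
noncomputable def gM (k : ι) (t : ↥(Q.F k)) : ↥Γ := Q.gX k t * Q.gY k (-t⁻¹) * Q.gX k t

/-- the mirror of `gM` -/
noncomputable def gM' (k : ι) (c : ↥(Q.F k)) : ↥Γ := Q.gY k (-c⁻¹) * Q.gX k c * Q.gY k (-c⁻¹)

theorem coe_gM (k : ι) (t : ↥(Q.F k)) : (Q.gM k t : GL D.Idx K) = C.pM (Q.L k) (t : K) := by
  simp [gM, gX, gY, Full.pM]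

theorem coe_gM' (k : ι) (c : ↥(Q.F k)) : (Q.gM' k c : GL D.Idx K) = C.pM' (Q.L k) (c : K) := by
  simp [gM', gX, gY, Full.pM']

theorem gM_conj (k : ι) {t : ↥(Q.F k)} (ht : t ≠ 0) (u : ↥(Q.F k)) :
    Q.gM k t * Q.gX k u * (Q.gM k t)⁻¹ = Q.gY k (-(t⁻¹ ^ 2 * u)) := by
  refine Subtype.ext ?_
  rw [Subgroup.coe_mul, Subgroup.coe_mul, Subgroup.coe_inv, Q.coe_gM]
  exact (C.pM_conj (Q.orth k) (fun e => ht (Subtype.ext e)) (u : K)).trans (by simp [gY])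

theorem gM'_conj (k : ι) {c : ↥(Q.F k)} (hc : c ≠ 0) (u : ↥(Q.F k)) :
    Q.gM' k c * Q.gY k u * (Q.gM' k c)⁻¹ = Q.gX k (-(c ^ 2 * u)) := by
  refine Subtype.ext ?_
  rw [Subgroup.coe_mul, Subgroup.coe_mul, Subgroup.coe_inv, Q.coe_gM']
  exact (C.pM'_conj (Q.orth k) (fun e => hc (Subtype.ext e)) (u : K)).trans (by simp [gX])

theorem mul_eq_neg_one (k : ι) {a b u z : ↥(Q.F k)} (hb : b ≠ 0) (hu : u ≠ 0)
    (h : (Q.gX k a * Q.gY k b * Q.gX k a) * Q.gX k u * (Q.gX k a * Q.gY k b * Q.gX k a)⁻¹ =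
      Q.gY k z) : a * b = -1 := by
  have hY : Q.gY k b = Q.gX k b⁻¹ * Q.gM k (-b⁻¹) * Q.gX k b⁻¹ := by
    simp only [gM, inv_neg, inv_inv, neg_neg, ← Q.gX_inv]
    group
  have hw : -(b ^ 2 * u) ≠ 0 := neg_ne_zero.2 (mul_ne_zero (pow_ne_zero _ hb) hu)
  have hconj : Q.gM k (-b⁻¹) * Q.gX k u * (Q.gM k (-b⁻¹))⁻¹ = Q.gY k (-(b ^ 2 * u)) := by
    rw [Q.gM_conj k (neg_ne_zero.2 (inv_ne_zero hb))]
    simp [inv_neg]
  have hXX : ∀ v : ↥(Q.F k), Q.gX k v * Q.gX k u * (Q.gX k v)⁻¹ = Q.gX k u := fun v => by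
    rw [Q.gX_inv, ← Q.gX_add, ← Q.gX_add]; congr 1; ring
  obtain ⟨c, hcdef⟩ : ∃ c, c = a + b⁻¹ := ⟨_, rfl⟩
  have key : Q.gX k c * Q.gY k (-(b ^ 2 * u)) * (Q.gX k c)⁻¹ = Q.gY k z := by
    rw [← h, hY, hcdef]
    calc Q.gX k (a + b⁻¹) * Q.gY k (-(b ^ 2 * u)) * (Q.gX k (a + b⁻¹))⁻¹
        = Q.gX k a * Q.gX k b⁻¹ * (Q.gM k (-b⁻¹) *
            (Q.gX k (b⁻¹ + a) * Q.gX k u * (Q.gX k (b⁻¹ + a))⁻¹) * (Q.gM k (-b⁻¹))⁻¹) *
            (Q.gX k a * Q.gX k b⁻¹)⁻¹ := by rw [hXX, hconj, Q.gX_add]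
      _ = _ := by rw [Q.gX_add k b⁻¹ a]; group
  by_contra hne
  have hc : c ≠ 0 := by
    intro h0
    rw [hcdef] at h0
    exact hne (by rw [eq_neg_of_add_eq_zero_left h0, neg_mul, inv_mul_cancel₀ hb])
  have hX : Q.gX k c = Q.gY k c⁻¹ * Q.gM' k c * Q.gY k c⁻¹ := by
    simp only [gM', ← Q.gY_inv]
    group
  have hYY : ∀ v w : ↥(Q.F k), Q.gY k v * Q.gY k w * (Q.gY k v)⁻¹ = Q.gY k w := fun v w => by
    rw [Q.gY_inv, ← Q.gY_add, ← Q.gY_add]; congr 1; ring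
  have h1 : Q.gX k (-(c ^ 2 * -(b ^ 2 * u))) = Q.gY k z := by
    rw [← Q.gM'_conj k hc]
    calc Q.gM' k c * Q.gY k (-(b ^ 2 * u)) * (Q.gM' k c)⁻¹
        = (Q.gY k c⁻¹)⁻¹ * (Q.gX k c * ((Q.gY k c⁻¹)⁻¹ * Q.gY k (-(b ^ 2 * u)) *
            Q.gY k c⁻¹) * (Q.gX k c)⁻¹) * Q.gY k c⁻¹ := by rw [hX]; group
      _ = _ := by
        have e := hYY (c⁻¹ : ↥(Q.F k))
        rw [show (Q.gY k c⁻¹)⁻¹ * Q.gY k (-(b ^ 2 * u)) * Q.gY k c⁻¹ = Q.gY k (-(b ^ 2 * u)) by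
          conv_lhs => rw [← e (-(b ^ 2 * u))]
          group, key]
        conv_lhs => rw [← e z]
        group
  exact neg_ne_zero.2 (mul_ne_zero (pow_ne_zero _ hc) hw) (Q.eq_zero_of_gX_eq_gY h1).1

/-! ### diagonal automorphisms -/

variable (T) in
/-- the parameters fixed by the twist -/
noncomputable def parGrp : Subgroup (Fin D.rank → Kˣ) where
  carrier := {c | T.σT c = c}
  one_mem' := T.σT_one
  mul_mem' := by
    intro a b (ha : T.σT a = a) (hb : T.σT b = b)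
    show T.σT (a * b) = a * b
    rw [T.σT_mul, ha, hb]
  inv_mem' := by
    intro a (ha : T.σT a = a)
    show T.σT a⁻¹ = a⁻¹
    refine eq_inv_of_mul_eq_one_left ?_
    conv_lhs => arg 2; rw [← ha]
    rw [← T.σT_mul, inv_mul_cancel, T.σT_one]

theorem φ_torAut (c : Fin D.rank → Kˣ) (g : ↥(D.group K)) :
    T.φ (C.torAut c g) = C.torAut (T.σT c) (T.φ g) := by
  have hi : ∀ (i : Fin D.rank) (t : K), T.φ (C.aX (C.G.simp' i) t) =
      C.aX (C.G.simp' (T.node i)) (T.σ (C.G.simp' i) t) := fun i t => by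
    rw [Full.aX, T.φ_xu, T.eps_simp, one_mul]
    exact Subtype.ext (by rw [T.p_simp]; rfl)
  have hn : ∀ (i : Fin D.rank) (t : K), T.φ (C.aX (C.G.negr (C.G.simp' i)) t) =
      C.aX (C.G.negr (C.G.simp' (T.node i))) (T.σ (C.G.simp' i) t) := fun i t => by
    rw [Full.aX, T.φ_xu, T.eps_negr, one_mul, T.σ_negr]
    exact Subtype.ext (by rw [T.p_negr, T.p_simp]; rfl)
  have h := C.G.hom_ext_simple (φ := T.φ.comp (C.torAut c).toMonoidHom)
    (ψ := (C.torAut (T.σT c)).toMonoidHom.comp T.φ) (fun i t => ?_) fun i t => ?_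
  · exact DFunLike.congr_fun h g
  · show T.φ (C.torAut c (C.aX _ t)) = C.torAut (T.σT c) (T.φ (C.aX _ t))
    rw [C.torAut_simp, hi, hi, C.torAut_simp, map_mul]
    simp [Twist.σT]
  · show T.φ (C.torAut c (C.aX _ t)) = C.torAut (T.σT c) (T.φ (C.aX _ t))
    rw [C.torAut_negr, hn, hn, C.torAut_negr, map_mul]
    simp [Twist.σT]

include P in
theorem tor_conj_mem {c : Fin D.rank → Kˣ} (hc : c ∈ parGrp T) {g : GL D.Idx K} (hg : g ∈ Γ) :
    C.G.tor c * g * (C.G.tor c)⁻¹ ∈ Γ := by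
  rw [P.eq_Fix] at hg ⊢
  obtain ⟨hgG, e⟩ := T.mem_Fix.1 hg
  refine T.mem_Fix.2 ⟨C.G.tor_conj_mem c hgG, ?_⟩
  show T.φ (C.torAut c ⟨g, hgG⟩) = C.torAut c ⟨g, hgG⟩
  rw [φ_torAut, e, show T.σT c = c from hc]

/-- a diagonal automorphism of the twisted group -/
noncomputable def torG (_ : TwPar P) (c : ↥(parGrp T)) : MulAut ↥Γ where
  toFun g := ⟨C.G.tor c.1 * g * (C.G.tor c.1)⁻¹, tor_conj_mem (P := P) c.2 g.2⟩
  invFun g := ⟨(C.G.tor c.1)⁻¹ * g * C.G.tor c.1, by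
    have := tor_conj_mem (P := P) (inv_mem c.2) g.2
    rwa [map_inv, inv_inv] at this⟩
  left_inv g := Subtype.ext (by simp [mul_assoc])
  right_inv g := Subtype.ext (by simp [mul_assoc])
  map_mul' g h := Subtype.ext (by simp [mul_assoc])

/-- the diagonal automorphisms as a homomorphism -/
noncomputable def torGHom : ↥(parGrp T) →* MulAut ↥Γ :=
  MonoidHom.mk' Q.torG fun a b => MulEquiv.ext fun g => Subtype.ext (by
    show C.G.tor (a.1 * b.1) * (g : GL D.Idx K) * (C.G.tor (a.1 * b.1))⁻¹ =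
      C.G.tor a.1 * (C.G.tor b.1 * (g : GL D.Idx K) * (C.G.tor b.1)⁻¹) * (C.G.tor a.1)⁻¹
    rw [map_mul]; group)

theorem torG_gX (c : ↥(parGrp T)) {k : ι} (a : ↥(Q.F k))
    (h : ∀ p ∈ Q.L k, (c.1 p.1 : K) = p.2 (a : K)) (t : ↥(Q.F k)) :
    Q.torG c (Q.gX k t) = Q.gX k (a * t) ∧ Q.torG c (Q.gY k t) = Q.gY k (a⁻¹ * t) := by
  constructor <;> refine Subtype.ext ?_
  · show C.G.tor c.1 * C.pP (Q.L k) (t : K) * (C.G.tor c.1)⁻¹ = C.pP (Q.L k) ((a : K) * (t : K))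
    rw [C.tor_conj_pP, Full.pP]
    refine congrArg List.prod (List.map_congr_left fun p hp => ?_)
    rw [h p hp, map_mul]
  · show C.G.tor c.1 * C.pN (Q.L k) (t : K) * (C.G.tor c.1)⁻¹ =
      C.pN (Q.L k) ((a : K)⁻¹ * (t : K))
    rw [C.tor_conj_pN, Full.pN]
    refine congrArg List.prod (List.map_congr_left fun p hp => ?_)
    rw [h p hp, map_mul, map_inv₀]

theorem exists_parGrp (a : ∀ k, (↥(Q.F k))ˣ) :
    ∃ c : ↥(parGrp T), ∀ k, ∀ p ∈ Q.L k, (c.1 p.1 : K) = p.2 (((a k : ↥(Q.F k))) : K) := by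
  choose kk pp hp hpe using Q.cover
  let c : Fin D.rank → Kˣ := fun i =>
    Units.map (pp i).2.toRingHom.toMonoidHom (Units.map (Q.F (kk i)).subtype.toMonoidHom (a (kk i)))
  have hc : ∀ k, ∀ p ∈ Q.L k, (c p.1 : K) = p.2 (((a k : ↥(Q.F k))) : K) := by
    intro k p hpk
    have h0 := Q.mem_L _ _ (hp p.1)
    rw [hpe p.1] at h0
    obtain rfl : kk p.1 = k := O.disjoint _ _ _ h0 (Q.mem_L k p hpk)
    show (pp p.1).2 (((a (kk p.1) : ↥(Q.F (kk p.1)))) : K) = _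
    rw [Q.uniq (hp p.1) hpk (hpe p.1)]
  refine ⟨⟨c, funext fun j => Units.ext ?_⟩, hc⟩
  obtain ⟨i, rfl⟩ := T.node.surjective j
  simp only [Twist.σT, Equiv.symm_apply_apply, Units.coe_map]
  show T.σ _ (c i : K) = (c (T.node i) : K)
  obtain ⟨b, hb, hb1, hb2⟩ := Q.compat _ (pp i) (hp i) _ (a (kk i) : ↥(Q.F (kk i))).2
  rw [Q.σ_eq, ← hpe i, hc _ _ (hp i), ← hb1, hc _ b hb, hb2]

/-- the automorphism acts on each orbit subgroup by a field automorphism -/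
def IsStdG (ψ : MulAut ↥Γ) (s : ∀ k, ↥(Q.F k) ≃+* ↥(Q.F k)) : Prop :=
  ∀ k t, ψ (Q.gX k t) = Q.gX k (s k t) ∧ ψ (Q.gY k t) = Q.gY k (s k t)

variable [Fintype K]

theorem exists_stdG [Fintype ι]
    (hperm : ∀ (ψ : MulAut ↥Γ) (π : Equiv.Perm ι),
      (∀ k, (Q.gXs k).map ψ.toMonoidHom = Q.gXs (π k) ∧ (Q.gYs k).map ψ.toMonoidHom = Q.gYs (π k)) →
      π = 1)
    (θ : MulAut ↥Γ) : ∃ (x : ↥Γ) (c : ↥(parGrp T)) (φ : MulAut ↥Γ)
      (s : ∀ k, ↥(Q.F k) ≃+* ↥(Q.F k)), Q.IsStdG φ s ∧ θ = MulAut.conj x * Q.torGHom c * φ := by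
  classical
  obtain ⟨x, hU, hV⟩ := P.exists_opposite θ
  set ψ := θ.trans (MulAut.conj x)
  obtain ⟨π, hπ⟩ := Q.exists_perm_orbits ψ hU hV
  obtain rfl := hperm ψ π hπ
  have hf : ∀ k (t : ↥(Q.F k)), ∃ u, Q.gX k u = ψ (Q.gX k t) := fun k t => by
    have h : ψ (Q.gX k t) ∈ Q.gXs k := (hπ k).1 ▸ ⟨_, ⟨t, rfl⟩, rfl⟩
    exact h
  have hg : ∀ k (t : ↥(Q.F k)), ∃ u, Q.gY k u = ψ (Q.gY k t) := fun k t => by
    have h : ψ (Q.gY k t) ∈ Q.gYs k := (hπ k).2 ▸ ⟨_, ⟨t, rfl⟩, rfl⟩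
    exact h
  choose f hf using hf
  choose g hg using hg
  have hadd : ∀ k t u, f k (t + u) = f k t + f k u := fun k t u => Q.gX_inj k (by
    rw [hf, Q.gX_add, map_mul, ← hf, ← hf, ← Q.gX_add])
  have hgadd : ∀ k t u, g k (t + u) = g k t + g k u := fun k t u => Q.gY_inj k (by
    rw [hg, Q.gY_add, map_mul, ← hg, ← hg, ← Q.gY_add])
  have hzero : ∀ k, f k 0 = 0 := fun k => by simpa using hadd k 0 0
  have hgzero : ∀ k, g k 0 = 0 := fun k => by simpa using hgadd k 0 0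
  have hfne : ∀ k t, t ≠ 0 → f k t ≠ 0 := fun k t ht h => ht (Q.gX_inj k (ψ.injective (by
    rw [← hf, ← hf, h, hzero])))
  have hgne : ∀ k t, t ≠ 0 → g k t ≠ 0 := fun k t ht h => ht (Q.gY_inj k (ψ.injective (by
    rw [← hg, ← hg, h, hgzero])))
  have hfg : ∀ k (t : ↥(Q.F k)), t ≠ 0 → f k t * g k (-t⁻¹) = -1 := by
    intro k t ht
    have e := congrArg ψ (Q.gM_conj k ht 1)
    simp only [gM, map_mul, map_inv, ← hf, ← hg] at e
    exact Q.mul_eq_neg_one k (hgne k _ (neg_ne_zero.2 (inv_ne_zero ht))) (hfne k 1 one_ne_zero) e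
  obtain ⟨c, hc⟩ := Q.exists_parGrp fun k => Units.mk0 (f k 1) (hfne k 1 one_ne_zero)
  set φ : MulAut ↥Γ := (Q.torGHom c)⁻¹ * ψ
  set a : ∀ k, ↥(Q.F k) := fun k => f k 1
  have ha : ∀ k, a k ≠ 0 := fun k => hfne k 1 one_ne_zero
  have htor : ∀ k (t : ↥(Q.F k)), Q.torGHom c (Q.gX k t) = Q.gX k (a k * t) ∧
      Q.torGHom c (Q.gY k t) = Q.gY k ((a k)⁻¹ * t) := fun k t => Q.torG_gX c (a k) (hc k) t
  set s : ∀ k, ↥(Q.F k) → ↥(Q.F k) := fun k t => f k t / a k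
  have hφ1 : ∀ k t, φ (Q.gX k t) = Q.gX k (s k t) := by
    intro k t
    show (Q.torGHom c).symm (ψ _) = _
    rw [MulEquiv.symm_apply_eq, (htor k _).1, ← hf]
    congr 1
    simp only [s]
    field_simp [ha k]
  have hφ2 : ∀ k t, φ (Q.gY k t) = Q.gY k (g k t * a k) := by
    intro k t
    show (Q.torGHom c).symm (ψ _) = _
    rw [MulEquiv.symm_apply_eq, (htor k _).2, ← hg]
    congr 1
    field_simp [ha k]
  have s_add : ∀ k t u, s k (t + u) = s k t + s k u := fun k t u => by simp [s, hadd, add_div]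
  have s_one : ∀ k, s k 1 = 1 := fun k => div_self (ha k)
  have s_neg : ∀ k t, s k (-t) = -s k t := fun k t => by
    have h := s_add k t (-t)
    rw [add_neg_cancel, show s k 0 = 0 by simp [s, hzero]] at h
    exact eq_neg_of_add_eq_zero_right h.symm
  have hM : ∀ k (t : ↥(Q.F k)), t ≠ 0 → φ (Q.gM k t) = Q.gM k (s k t) := by
    intro k t ht
    simp only [gM, map_mul, hφ1, hφ2]
    congr 3
    have h1 := hfg k t ht
    have h2 : f k t ≠ 0 := hfne k t ht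
    simp only [s, inv_div, neg_div']
    rw [eq_div_iff h2]
    linear_combination a k * h1
  have s_ne : ∀ k t, t ≠ 0 → s k t ≠ 0 := fun k t ht => div_ne_zero (hfne k t ht) (ha k)
  have hconj : ∀ k (t u : ↥(Q.F k)), t ≠ 0 →
      g k (-(t⁻¹ ^ 2 * u)) * a k = -((s k t)⁻¹ ^ 2 * s k u) := by
    intro k t u ht
    refine Q.gY_inj k ?_
    rw [← hφ2, ← Q.gM_conj k ht, map_mul, map_mul, map_inv, hM k t ht, hφ1,
      Q.gM_conj k (s_ne k t ht)]
  have hG : ∀ k v, g k v * a k = s k v := by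
    intro k v
    have h := hconj k 1 (-v) one_ne_zero
    simp only [inv_one, one_pow, one_mul, neg_neg, s_one, s_neg] at h
    exact h
  have s_sq : ∀ k t u, s k (t ^ 2 * u) = s k t ^ 2 * s k u := by
    intro k t u
    rcases eq_or_ne t 0 with rfl | ht
    · simp [s, hzero]
    have h := hconj k t (t ^ 2 * u) ht
    rw [hG, show t⁻¹ ^ 2 * (t ^ 2 * u) = u by field_simp, s_neg, neg_inj] at h
    rw [h]
    field_simp [s_ne k t ht]
  have s_mul : ∀ k t u, s k (t * u) = s k t * s k u := by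
    intro k t u
    have h1 := s_sq k (t + 1) u
    have h2 := s_sq k t u
    rw [show (t + 1) ^ 2 * u = t ^ 2 * u + (t * u + t * u) + u by ring, s_add, s_add, s_add, h2,
      s_add, s_one] at h1
    by_cases h20 : (2 : ↥(Q.F k)) = 0
    · have : CharP ↥(Q.F k) 2 := CharTwo.of_one_ne_zero_of_two_eq_zero one_ne_zero h20
      haveI : Fintype ↥(Q.F k) := Fintype.ofFinite _
      obtain ⟨r, rfl⟩ := (bijective_frobenius ↥(Q.F k) 2).2 t
      rw [frobenius_def, s_sq]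
      have h3 := s_sq k r 1
      rw [mul_one, s_one, mul_one] at h3
      rw [h3]
    · have : (2 : ↥(Q.F k)) * (s k (t * u) - s k t * s k u) = 0 := by linear_combination h1
      exact sub_eq_zero.1 ((mul_eq_zero.1 this).resolve_left h20)
  let S : ∀ k, ↥(Q.F k) →+* ↥(Q.F k) := fun k =>
    { toFun := s k
      map_one' := s_one k
      map_mul' := s_mul k
      map_zero' := by simp [s, hzero]
      map_add' := s_add k }
  refine ⟨x⁻¹, c, φ,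
    fun k => RingEquiv.ofBijective (S k) (Finite.injective_iff_bijective.1 (S k).injective),
    fun k t => ⟨hφ1 k t, ?_⟩, ?_⟩
  · rw [hφ2, hG]; rfl
  · simp only [φ, ψ, mul_assoc, mul_inv_cancel_left]
    rw [map_inv, eq_inv_mul_iff_mul_eq]
    rfl

end TwPar

end CfsgLib.Lie.Chev
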