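import Cfsg.Agent.Lib.Lie.Chev.Tw.Out.ParCount

/-!
# Linking the field automorphisms of neighbouring orbits
-/

set_option autoImplicit false

namespace CfsgLib.Lie.Chev

open Cfsg.Lie
open scoped MatrixGroups

variable {D : ChevalleyDatum} {K : Type*} [Field K] {C : Full D} {T : Twist C.G K} {ι : Type}
  {O : Orbits C.G T.p ι} {Γ : Subgroup (GL D.Idx K)}

/-- a unit fixed by the power map is a norm -/
theorem exists_norm_eq [Fintype K] {q e M : ℕ} (hq : IsPrimePow q) (hK : Fintype.card K = q ^ e)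
    (hM : M * (q - 1) = q ^ e - 1) (u : Kˣ) (hu : (u : K) ^ q = u) : ∃ b : Kˣ, b ^ M = u := by
  classical
  have h1 : 1 < q := hq.one_lt
  have hker : u ∈ (powMonoidHom (q - 1) : Kˣ →* Kˣ).ker := by
    rw [MonoidHom.mem_ker, powMonoidHom_apply]
    rw [← Units.val_pow_eq_pow_val, Units.val_inj, ← pow_sub_one_mul (show q ≠ 0 by omega) u,
      mul_eq_right] at hu
    exact hu
  have hn : Nat.card Kˣ = M * (q - 1) := by
    rw [hM, Nat.card_units, Nat.card_eq_fintype_card, hK]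
  have hle : (powMonoidHom M : Kˣ →* Kˣ).range ≤ (powMonoidHom (q - 1) : Kˣ →* Kˣ).ker := by
    rintro _ ⟨b, rfl⟩
    rw [MonoidHom.mem_ker, powMonoidHom_apply, powMonoidHom_apply, ← pow_mul, ← hn, pow_card_eq_one']
  have he : (powMonoidHom M : Kˣ →* Kˣ).range = (powMonoidHom (q - 1) : Kˣ →* Kˣ).ker := by
    refine Subgroup.eq_of_le_of_card_ge hle ?_
    have h := Subgroup.card_eq_card_quotient_mul_card_subgroup (powMonoidHom M : Kˣ →* Kˣ).ker
    rw [Nat.card_congr (QuotientGroup.quotientKerEquivRange (powMonoidHom M : Kˣ →* Kˣ)).toEquiv,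
      IsCyclic.card_powMonoidHom_ker, hn, Nat.gcd_eq_right (dvd_mul_right M _), mul_comm] at h
    have hM0 : 0 < M := by
      rcases Nat.eq_zero_or_pos M with h0 | h0
      · rw [h0, zero_mul] at hn
        exact absurd hn Nat.card_pos.ne'
      · exact h0
    rw [IsCyclic.card_powMonoidHom_ker, hn, Nat.gcd_eq_right (dvd_mul_left _ M),
      ← Nat.eq_of_mul_eq_mul_right hM0 h]
  rw [← he] at hker
  obtain ⟨b, hb⟩ := hker
  exact ⟨b, hb⟩

namespace TwPar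

variable {P : TwGp O Γ} (Q : TwPar P)

theorem torus_conj (k l : ι) {b : ↥(Q.F k)} (hb : b ≠ 0) {ν : ↥(Q.F l)}
    (hν : ∀ a ∈ Q.L l, (((Q.L k).map fun p =>
      (p.2 (b : K)) ^ cart D p.1 (C.G.simp' a.1)).prod : K) = a.2 (ν : K)) :
    (Q.gM k b * (Q.gM k 1)⁻¹) * Q.gX l 1 * (Q.gM k b * (Q.gM k 1)⁻¹)⁻¹ = Q.gX l ν := by
  refine Subtype.ext ?_
  simp only [Subgroup.coe_mul, Subgroup.coe_inv, coe_gM, OneMemClass.coe_one]
  show C.pM (Q.L k) (b : K) * (C.pM (Q.L k) 1)⁻¹ * C.pP (Q.L l) (1 : K) *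
    (C.pM (Q.L k) (b : K) * (C.pM (Q.L k) 1)⁻¹)⁻¹ = C.pP (Q.L l) (ν : K)
  obtain ⟨u, hu⟩ : ∃ u : Kˣ, (u : K) = b := ⟨Units.mk0 _ fun e => hb (Subtype.ext e), rfl⟩
  set h := C.pM (Q.L k) (b : K) * (C.pM (Q.L k) 1)⁻¹
  rw [Full.pP, Full.pP, ← MulAut.conj_apply, map_list_prod, List.map_map]
  refine congrArg List.prod (List.map_congr_left fun a ha => ?_)
  rw [Function.comp_apply, MulAut.conj_apply]
  simp only [h, ← hu]
  rw [C.pM_torus (Q.orth k), map_one, mul_one]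
  congr 1
  rw [← hν a ha, ← hu, ← Units.coeHom_apply, map_list_prod, List.map_map]
  refine congrArg List.prod (List.map_congr_left fun p _ => ?_)
  simp [Units.val_zpow_eq_zpow_val]

theorem IsStdG.map_torus {ψ : MulAut ↥Γ} {s : ∀ k, ↥(Q.F k) ≃+* ↥(Q.F k)} (h : Q.IsStdG ψ s)
    (k l : ι) (ν : ↥(Q.F k) → ↥(Q.F l))
    (hν : ∀ b, b ≠ 0 → ∀ a ∈ Q.L l, (((Q.L k).map fun p =>
      (p.2 ((b : ↥(Q.F k)) : K)) ^ cart D p.1 (C.G.simp' a.1)).prod : K) = a.2 (ν b : K))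
    {b : ↥(Q.F k)} (hb : b ≠ 0) : s l (ν b) = ν (s k b) := by
  have hM : ∀ t, ψ (Q.gM k t) = Q.gM k (s k t) := fun t => by
    simp only [gM, map_mul, (h k _).1, (h k _).2, map_neg, map_inv₀]
  have e := congrArg ψ (Q.torus_conj k l hb (hν b hb))
  simp only [map_mul, map_inv, hM, (h l _).1, map_one] at e
  have hsb : s k b ≠ 0 := fun e => hb ((s k).injective (e.trans (map_zero _).symm))
  rw [Q.torus_conj k l hsb (hν _ hsb)] at e
  exact (Q.gX_inj l e).symm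

end TwPar

end CfsgLib.Lie.Chev
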