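import Cfsg.Agent.Lib.Lie.Chev.Tw.Tools2
import Cfsg.Agent.Lib.Lie.Chev.AutRoot
import Mathlib.GroupTheory.Subgroup.Center

/-!
# Products over an orbit of mutually orthogonal fundamental roots
-/

set_option autoImplicit false

namespace CfsgLib.Lie.Chev

open Cfsg.Lie
open scoped MatrixGroups

theorem prod_map_mul_of_pairwise {α M : Type*} [Monoid M] {l : List α} (f g : α → M)
    (h : l.Pairwise fun a b => Commute (g a) (f b)) :
    (l.map fun a => f a * g a).prod = (l.map f).prod * (l.map g).prod := by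
  induction l with
  | nil => simp
  | cons a l ih =>
    rw [List.pairwise_cons] at h
    have hc : Commute (g a) (l.map f).prod := Commute.list_prod_right _ _ fun x hx => by
      obtain ⟨b, hb, rfl⟩ := List.mem_map.1 hx
      exact h.1 b hb
    simp only [List.map_cons, List.prod_cons, ih h.2]
    rw [mul_assoc, ← mul_assoc (g a), hc.eq]
    simp only [mul_assoc]

variable {D : ChevalleyDatum} {K : Type*} [Field K]

namespace Full

variable (C : Full D)

/-- the elements of the two root groups of a fundamental root -/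
noncomputable def pairGrp (i : Fin D.rank) : Subgroup (GL D.Idx K) :=
  Subgroup.closure {g | ∃ s ∈ [C.G.simp' i, C.G.negr (C.G.simp' i)], ∃ t : K, g = C.G.xu s t}

theorem xu_mem_pairGrp {i : Fin D.rank} {s : Fin D.nroots}
    (hs : s ∈ [C.G.simp' i, C.G.negr (C.G.simp' i)]) (t : K) : C.G.xu s t ∈ C.pairGrp i :=
  Subgroup.subset_closure ⟨s, hs, t, rfl⟩

theorem pairGrp_commute {i j : Fin D.rank} (h : C.Orth (C.G.simp' i) (C.G.simp' j))
    {x y : GL D.Idx K} (hx : x ∈ C.pairGrp i) (hy : y ∈ C.pairGrp j) : Commute x y := by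
  induction hx using Subgroup.closure_induction with
  | one => exact Commute.one_left _
  | mul a b _ _ ha hb => exact ha.mul_left hb
  | inv a _ ha => exact ha.inv_left
  | mem a ha =>
    obtain ⟨s, hs, t, rfl⟩ := ha
    induction hy using Subgroup.closure_induction with
    | one => exact Commute.one_right _
    | mul a b _ _ ha hb => exact ha.mul_right hb
    | inv a _ ha => exact ha.inv_right
    | mem b hb =>
      obtain ⟨r, hr, u, rfl⟩ := hb
      exact C.orth_commute h hs hr t u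

variable (L : List (Fin D.rank × RingAut K))

/-- the nodes of the list are mutually orthogonal -/
def OrthL : Prop := L.Pairwise fun a b => C.Orth (C.G.simp' a.1) (C.G.simp' b.1)

variable {L}

theorem prod_pair_mul (hL : C.OrthL L) (f g : Fin D.rank × RingAut K → GL D.Idx K)
    (hf : ∀ a ∈ L, f a ∈ C.pairGrp a.1) (hg : ∀ a ∈ L, g a ∈ C.pairGrp a.1) :
    (L.map fun a => f a * g a).prod = (L.map f).prod * (L.map g).prod :=
  prod_map_mul_of_pairwise f g
    (List.Pairwise.imp_of_mem (fun ha hb h => C.pairGrp_commute h (hg _ ha) (hf _ hb)) hL)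

theorem prod_pair_inv (hL : C.OrthL L) (f : Fin D.rank × RingAut K → GL D.Idx K)
    (hf : ∀ a ∈ L, f a ∈ C.pairGrp a.1) : (L.map f).prod⁻¹ = (L.map fun a => (f a)⁻¹).prod := by
  refine inv_eq_of_mul_eq_one_right ?_
  rw [← C.prod_pair_mul hL _ _ hf fun a ha => inv_mem (hf a ha)]
  refine List.prod_eq_one fun x hx => ?_
  obtain ⟨a, -, rfl⟩ := List.mem_map.1 hx
  exact mul_inv_cancel _

theorem prod_pair_conj (hL : C.OrthL L) (f g : Fin D.rank × RingAut K → GL D.Idx K)
    (hf : ∀ a ∈ L, f a ∈ C.pairGrp a.1) (hg : ∀ a ∈ L, g a ∈ C.pairGrp a.1) :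
    (L.map f).prod * (L.map g).prod * (L.map f).prod⁻¹ =
      (L.map fun a => f a * g a * (f a)⁻¹).prod := by
  rw [C.prod_pair_inv hL f hf, ← C.prod_pair_mul hL f g hf hg,
    ← C.prod_pair_mul hL _ _ (fun a ha => mul_mem (hf a ha) (hg a ha)) fun a ha => inv_mem (hf a ha)]

variable (L)

/-- the element of an orbit -/
noncomputable def pP (t : K) : GL D.Idx K := (L.map fun a => C.G.xu (C.G.simp' a.1) (a.2 t)).prod

/-- the element of the opposite orbit -/
noncomputable def pN (t : K) : GL D.Idx K :=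
  (L.map fun a => C.G.xu (C.G.negr (C.G.simp' a.1)) (a.2 t)).prod

variable {L}

theorem pos_mem_pairGrp (i : Fin D.rank) (t : K) : C.G.xu (C.G.simp' i) t ∈ C.pairGrp i :=
  C.xu_mem_pairGrp (by simp) t

theorem neg_mem_pairGrp (i : Fin D.rank) (t : K) :
    C.G.xu (C.G.negr (C.G.simp' i)) t ∈ C.pairGrp i :=
  C.xu_mem_pairGrp (by simp) t

theorem pP_add (hL : C.OrthL L) (t u : K) : C.pP L (t + u) = C.pP L t * C.pP L u := by
  simp only [pP, map_add, C.G.xu_add]
  exact C.prod_pair_mul hL _ _ (fun a _ => C.pos_mem_pairGrp _ _) fun a _ => C.pos_mem_pairGrp _ _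

theorem pN_add (hL : C.OrthL L) (t u : K) : C.pN L (t + u) = C.pN L t * C.pN L u := by
  simp only [pN, map_add, C.G.xu_add]
  exact C.prod_pair_mul hL _ _ (fun a _ => C.neg_mem_pairGrp _ _) fun a _ => C.neg_mem_pairGrp _ _

theorem pP_zero : C.pP L (0 : K) = 1 := by
  simp [pP, C.G.xu_zero]

theorem pN_zero : C.pN L (0 : K) = 1 := by
  simp [pN, C.G.xu_zero]

theorem pP_inv (hL : C.OrthL L) (t : K) : (C.pP L t)⁻¹ = C.pP L (-t) :=
  inv_eq_of_mul_eq_one_right (by rw [← C.pP_add hL, add_neg_cancel, C.pP_zero])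

theorem pN_inv (hL : C.OrthL L) (t : K) : (C.pN L t)⁻¹ = C.pN L (-t) :=
  inv_eq_of_mul_eq_one_right (by rw [← C.pN_add hL, add_neg_cancel, C.pN_zero])

/-- the representative of the longest element of an orbit -/
noncomputable def pM (L : List (Fin D.rank × RingAut K)) (t : K) : GL D.Idx K :=
  C.pP L t * C.pN L (-t⁻¹) * C.pP L t

theorem pM_eq (hL : C.OrthL L) (t : K) :
    C.pM L t = (L.map fun a => C.G.nE (C.G.simp' a.1) (a.2 t)).prod := by
  simp only [pM, pP, pN]
  rw [← C.prod_pair_mul hL _ _ (fun a _ => C.pos_mem_pairGrp _ _) fun a _ => C.neg_mem_pairGrp _ _,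
    ← C.prod_pair_mul hL _ _
      (fun a _ => mul_mem (C.pos_mem_pairGrp _ _) (C.neg_mem_pairGrp _ _))
      fun a _ => C.pos_mem_pairGrp _ _]
  simp only [Good.nE, map_neg, map_inv₀]

theorem nE_mem_pairGrp (i : Fin D.rank) (t : K) : C.G.nE (C.G.simp' i) t ∈ C.pairGrp i :=
  mul_mem (mul_mem (C.pos_mem_pairGrp _ _) (C.neg_mem_pairGrp _ _)) (C.pos_mem_pairGrp _ _)

theorem pM_conj (hL : C.OrthL L) {t : K} (ht : t ≠ 0) (u : K) :
    C.pM L t * C.pP L u * (C.pM L t)⁻¹ = C.pN L (-(t⁻¹ ^ 2 * u)) := by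
  rw [C.pM_eq hL, pP, C.prod_pair_conj hL _ _ (fun a _ => C.nE_mem_pairGrp _ _)
    fun a _ => C.pos_mem_pairGrp _ _, pN]
  refine congrArg List.prod (List.map_congr_left fun a _ => ?_)
  rw [C.G.nE_xu _ _ _ ((map_ne_zero a.2).2 ht), map_neg, map_mul, map_pow, map_inv₀]

/-- the mirror of `pM` -/
noncomputable def pM' (L : List (Fin D.rank × RingAut K)) (c : K) : GL D.Idx K :=
  C.pN L (-c⁻¹) * C.pP L c * C.pN L (-c⁻¹)

theorem pM'_conj (hL : C.OrthL L) {c : K} (hc : c ≠ 0) (u : K) :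
    C.pM' L c * C.pN L u * (C.pM' L c)⁻¹ = C.pP L (-(c ^ 2 * u)) := by
  have hm : ∀ a : Fin D.rank × RingAut K,
      C.G.nE (C.G.negr (C.G.simp' a.1)) (a.2 (-c⁻¹)) ∈ C.pairGrp a.1 := fun a => by
    simp only [Good.nE, C.G.negr_negr]
    exact mul_mem (mul_mem (C.neg_mem_pairGrp _ _) (C.pos_mem_pairGrp _ _)) (C.neg_mem_pairGrp _ _)
  have e : C.pM' L c = (L.map fun a => C.G.nE (C.G.negr (C.G.simp' a.1)) (a.2 (-c⁻¹))).prod := by
    simp only [pM', pP, pN]
    rw [← C.prod_pair_mul hL _ _ (fun a _ => C.neg_mem_pairGrp _ _) fun a _ => C.pos_mem_pairGrp _ _,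
      ← C.prod_pair_mul hL _ _
        (fun a _ => mul_mem (C.neg_mem_pairGrp _ _) (C.pos_mem_pairGrp _ _))
        fun a _ => C.neg_mem_pairGrp _ _]
    simp only [Good.nE, C.G.negr_negr, map_neg, map_inv₀, inv_neg, inv_inv, neg_neg]
  rw [e, pN, C.prod_pair_conj hL _ _ (fun a _ => hm a) fun a _ => C.neg_mem_pairGrp _ _, pP]
  refine congrArg List.prod (List.map_congr_left fun a _ => ?_)
  rw [C.G.nE_xu _ _ _ ((map_ne_zero a.2).2 (neg_ne_zero.2 (inv_ne_zero hc))), C.G.negr_negr]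
  simp [map_inv₀]

theorem pN_eq (hL : C.OrthL L) (s : K) :
    C.pN L s = C.pP L s⁻¹ * C.pM L (-s⁻¹) * C.pP L s⁻¹ := by
  simp only [pM, inv_neg, inv_inv, neg_neg, ← C.pP_inv hL]
  group

theorem pP_eq (hL : C.OrthL L) (c : K) :
    C.pP L c = C.pN L c⁻¹ * C.pM' L c * C.pN L c⁻¹ := by
  simp only [pM', ← C.pN_inv hL]
  group

/-- the coefficients of a product over an orbit are determined -/
theorem coeff_eq_zero (hL : C.OrthL L) (v : Fin D.rank × RingAut K → K)
    (h : (L.map fun a => C.G.xu (C.G.simp' a.1) (v a)).prod = 1) : ∀ a ∈ L, v a = 0 := by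
  induction L with
  | nil => simp
  | cons a L ih =>
    rw [OrthL, List.pairwise_cons] at hL
    rw [List.map_cons, List.prod_cons] at h
    have hr : Commute (L.map fun b => C.G.xu (C.G.simp' b.1) (v b)).prod
        (C.G.xu (C.G.negr (C.G.simp' a.1)) (1 : K)) := Commute.list_prod_left _ _ fun x hx => by
      obtain ⟨b, hb, rfl⟩ := List.mem_map.1 hx
      exact (C.pairGrp_commute (hL.1 b hb) (C.neg_mem_pairGrp _ _) (C.pos_mem_pairGrp _ _)).symm
    rw [eq_inv_of_mul_eq_one_right h] at hr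
    set p := C.G.simp' a.1
    have hv : v a = 0 := by
      by_contra hv
      have e : C.G.xu (C.G.negr p) 1 * C.G.xu p (v a) * (C.G.xu (C.G.negr p) 1)⁻¹ =
          C.G.xu p (v a) := by
        rw [mul_inv_eq_iff_eq_mul]
        exact (Commute.inv_left_iff.1 hr).eq.symm
      rw [C.G.negr_conj_pos p one_ne_zero, inv_one] at e
      have h2 : C.G.xu (C.G.negr p) (-((1 : K) ^ 2 * v a)) ∈
          D.borelSubgroup K ⊓ D.negUnipotent K := by
        refine ⟨?_, C.G.xu_mem_V ((C.G.isNegRoot_iff_not_pos _).2 (C.G.negr_simp_not_pos a.1)) _⟩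
        have hp : ∀ s : K, C.G.xu p s ∈ D.borelSubgroup K := fun s =>
          Subgroup.mem_sup_left (C.G.xu_mem_U (C.G.simp_pos a.1) s)
        rw [show C.G.xu (C.G.negr p) (-((1 : K) ^ 2 * v a)) =
          (C.G.xu p 1)⁻¹ * C.G.xu p (v a) * C.G.xu p 1 by (conv_rhs => rw [← e]); group]
        exact Subgroup.mul_mem _ (Subgroup.mul_mem _ (Subgroup.inv_mem _ (hp _)) (hp _)) (hp _)
      rw [C.G.B_inf_V, Subgroup.mem_bot, C.G.xu_eq_one_iff] at h2
      simp [hv] at h2
    rw [hv, C.G.xu_zero, one_mul] at h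
    intro b hb
    rcases List.mem_cons.1 hb with rfl | hb
    exacts [hv, ih hL.2 h b hb]

theorem coeff_inj (hL : C.OrthL L) (v w : Fin D.rank × RingAut K → K)
    (h : (L.map fun a => C.G.xu (C.G.simp' a.1) (v a)).prod =
      (L.map fun a => C.G.xu (C.G.simp' a.1) (w a)).prod) : ∀ a ∈ L, v a = w a := by
  intro a ha
  refine sub_eq_zero.1 (C.coeff_eq_zero hL (fun a => v a - w a) ?_ a ha)
  have e : (L.map fun a => C.G.xu (C.G.simp' a.1) (v a - w a)).prod =
      (L.map fun a => C.G.xu (C.G.simp' a.1) (v a) * (C.G.xu (C.G.simp' a.1) (w a))⁻¹).prod := by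
    simp only [C.G.xu_inv, ← C.G.xu_add, sub_eq_add_neg]
  rw [e, C.prod_pair_mul hL _ _ (fun a _ => C.pos_mem_pairGrp _ _)
      fun a _ => inv_mem (C.pos_mem_pairGrp _ _),
    ← C.prod_pair_inv hL _ fun a _ => C.pos_mem_pairGrp _ _, h, mul_inv_cancel]

theorem pP_injective (hL : C.OrthL L) (hne : L ≠ []) : Function.Injective (C.pP L) := by
  intro t u h
  obtain ⟨a, ha⟩ := List.exists_mem_of_ne_nil L hne
  exact a.2.injective (C.coeff_inj hL _ _ h a ha)

theorem pN_injective (hL : C.OrthL L) (hne : L ≠ []) : Function.Injective (C.pN L) := by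
  intro t u h
  have h1 := C.pM_conj hL (one_ne_zero (α := K)) (-t)
  have h2 := C.pM_conj hL (one_ne_zero (α := K)) (-u)
  simp only [inv_one, one_pow, one_mul, neg_neg] at h1 h2
  rw [← h1, ← h2, mul_left_inj, mul_right_inj] at h
  exact neg_injective (C.pP_injective hL hne h)

theorem tor_conj_prod (c : Fin D.rank → Kˣ) (r : Fin D.rank × RingAut K → Fin D.nroots)
    (v : Fin D.rank × RingAut K → K) :
    C.G.tor c * (L.map fun a => C.G.xu (r a) (v a)).prod * (C.G.tor c)⁻¹ =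
      (L.map fun a => C.G.xu (r a) ((C.G.chi c (C.G.rho (r a)) : K) * v a)).prod := by
  rw [← MulAut.conj_apply, map_list_prod, List.map_map]
  refine congrArg List.prod (List.map_congr_left fun a _ => ?_)
  simp [C.G.tor_conj_xu]

theorem tor_conj_pP (c : Fin D.rank → Kˣ) (t : K) :
    C.G.tor c * C.pP L t * (C.G.tor c)⁻¹ =
      (L.map fun a => C.G.xu (C.G.simp' a.1) ((c a.1 : K) * a.2 t)).prod := by
  rw [pP, C.tor_conj_prod]
  simp only [C.G.rho_simp, C.G.chi_single]

theorem tor_conj_pN (c : Fin D.rank → Kˣ) (t : K) :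
    C.G.tor c * C.pN L t * (C.G.tor c)⁻¹ =
      (L.map fun a => C.G.xu (C.G.negr (C.G.simp' a.1)) ((c a.1 : K)⁻¹ * a.2 t)).prod := by
  rw [pN, C.tor_conj_prod]
  refine congrArg List.prod (List.map_congr_left fun a _ => ?_)
  rw [C.G.rho_negr, ← neg_one_smul ℤ, C.G.chi_zsmul, C.G.rho_simp, C.G.chi_single, zpow_neg_one,
    Units.val_inv_eq_inv_val]

theorem fmap_pP (τ : RingAut K) (t : K) (h : ∀ a ∈ L, ∀ x, a.2 (τ x) = τ (a.2 x)) :
    fmap D (τ.toRingHom : K →+* K) (C.pP L t) = C.pP L (τ t) := by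
  rw [pP, map_list_prod, List.map_map, pP]
  refine congrArg List.prod (List.map_congr_left fun a ha => ?_)
  simp [C.G.fmap_xu, h a ha]

theorem fmap_pN (τ : RingAut K) (t : K) (h : ∀ a ∈ L, ∀ x, a.2 (τ x) = τ (a.2 x)) :
    fmap D (τ.toRingHom : K →+* K) (C.pN L t) = C.pN L (τ t) := by
  rw [pN, map_list_prod, List.map_map, pN]
  refine congrArg List.prod (List.map_congr_left fun a ha => ?_)
  simp [C.G.fmap_xu, h a ha]

/-- the torus element of an orbit acts on a fundamental root element by the Cartan integers -/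
theorem pM_torus (hL : C.OrthL L) (b : Kˣ) (j : Fin D.rank) (u : K) :
    (C.pM L (b : K) * (C.pM L 1)⁻¹) * C.G.xu (C.G.simp' j) u * (C.pM L (b : K) * (C.pM L 1)⁻¹)⁻¹ =
      C.G.xu (C.G.simp' j)
        ((((L.map fun a => (Units.map a.2.toRingHom.toMonoidHom b) ^
          cart D a.1 (C.G.simp' j)).prod : Kˣ) : K) * u) := by
  have hh : C.pM L (b : K) * (C.pM L 1)⁻¹ =
      (L.map fun a => C.G.hd (C.G.simp' a.1) (Units.map a.2.toRingHom.toMonoidHom b)).prod := by
    rw [C.pM_eq hL, C.pM_eq hL, C.prod_pair_inv hL _ fun a _ => C.nE_mem_pairGrp _ _,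
      ← C.prod_pair_mul hL _ _ (fun a _ => C.nE_mem_pairGrp _ _)
        fun a _ => inv_mem (C.nE_mem_pairGrp _ _)]
    refine congrArg List.prod (List.map_congr_left fun a _ => ?_)
    rw [map_one, C.G.nE_inv, ← C.G.hE_eq]
    rfl
  rw [hh]
  clear hh hL
  induction L generalizing u with
  | nil => simp
  | cons a L ih =>
    simp only [List.map_cons, List.prod_cons]
    rw [show ∀ x y z : GL D.Idx K, x * y * z * (x * y)⁻¹ = x * (y * z * y⁻¹) * x⁻¹ from
      fun x y z => by group, ih,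
      show C.G.hd (C.G.simp' a.1) (Units.map a.2.toRingHom.toMonoidHom b) =
        C.G.tor fun l => (Units.map a.2.toRingHom.toMonoidHom b) ^ C.G.pair (C.G.simp' a.1) l
        from rfl, C.G.tor_conj_xu, C.G.rho_simp, C.G.chi_single, C.G.pair_simp]
    simp [mul_assoc]

end Full

end CfsgLib.Lie.Chev
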