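import Cfsg.Agent.Lib.Lie.Chev.Tw.Out.Base

/-!
# Automorphisms of a twisted group and its orbit subgroups, without parametrisation

For an automorphism fixing `U` and `V`: the orbit subgroups of `V` are fixed when their orders differ, and the
representatives of the simple reflections act on the torus compatibly with the automorphism.
-/

set_option autoImplicit false

namespace CfsgLib.Lie.Chev

open Cfsg.Lie
open scoped MatrixGroups

variable {D : ChevalleyDatum} {K : Type*} [Field K] {C : Full D} {T : Twist C.G K} {ι : Type}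
  {O : Orbits C.G T.p ι} {Γ : Subgroup (GL D.Idx K)}

namespace TwGp

variable (P : TwGp O Γ)

/-- an orbit subgroup -/
noncomputable def oX (_ : TwGp O Γ) (k : ι) : Subgroup ↥Γ :=
  (T.Fix ⊓ Uinv C.G (O.wO k) : Subgroup (GL D.Idx K)).subgroupOf Γ

/-- an opposite orbit subgroup -/
noncomputable def oY (k : ι) : Subgroup ↥Γ := (P.oX k).map (MulAut.conj (P.sGp k)).toMonoidHom

/-- a minimal parabolic subgroup -/
noncomputable def oP (k : ι) : Subgroup ↥Γ := P.bnPair.parabolic {P.sGp k}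

theorem mem_oX_iff {k : ι} {g : ↥Γ} :
    g ∈ P.oX k ↔ (g : GL D.Idx K) ∈ T.Fix ⊓ Uinv C.G (O.wO k) := Iff.rfl

theorem oX_le_gU (k : ι) : P.oX k ≤ P.gU := fun _ hg => C.G.Uinv_le _ hg.2

theorem gB_le_oP (k : ι) : P.gB ≤ P.oP k := by
  rw [← P.bnPair_B]; exact le_sup_left

theorem sGp_mem_oP (k : ι) : P.sGp k ∈ P.oP k :=
  (le_sup_right : Subgroup.closure {P.sGp k} ≤ P.oP k) (Subgroup.subset_closure rfl)

theorem sGp_not_mem (k : ι) : P.sGp k ∉ P.gB := by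
  rw [← P.bnPair_B]; exact BN.not_mem_B P.bnPair ⟨k, rfl⟩

theorem sGp_sq (k : ι) : P.sGp k * P.sGp k ∈ P.gB := by
  rw [← P.bnPair_B]; exact P.bnPair.sq_mem _ ⟨k, rfl⟩

theorem oY_le_gV (k : ι) : P.oY k ≤ P.gV := by
  rintro _ ⟨x, hx, rfl⟩
  exact C.G.conj_Uinv (P.toPre.nk_perm k) _ hx.2

theorem oY_le_oP (k : ι) : P.oY k ≤ P.oP k := by
  rintro _ ⟨x, hx, rfl⟩
  exact mul_mem (mul_mem (P.sGp_mem_oP k) (P.gB_le_oP k (P.gU_le_gB (P.oX_le_gU k hx))))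
    (inv_mem (P.sGp_mem_oP k))

theorem card_oY (k : ι) : Nat.card ↥(P.oY k) = Nat.card ↥(P.oX k) :=
  (Nat.card_congr (Subgroup.equivMapOfInjective _ _ (MulAut.conj (P.sGp k)).injective).toEquiv).symm

theorem nPerm_of_gH {d : ↥Γ} (hd : d ∈ P.gH) : C.G.NPerm (d : GL D.Idx K) 1 := fun r => by
  obtain ⟨a, ha⟩ := C.G.H_conj_xu hd r
  exact ⟨a, ha⟩

theorem conj_mem_oX {k : ι} {d x : ↥Γ} (hd : d ∈ P.gH) (hx : x ∈ P.oX k) : d * x * d⁻¹ ∈ P.oX k :=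
  P.mem_oX_iff.2 ⟨P.le (d * x * d⁻¹).2,
    conj_closure (C := C) (P.nPerm_of_gH hd) _ _ (fun _ h => h) hx.2⟩

theorem oP_form {k : ι} {g : ↥Γ} (hg : g ∈ P.oP k) :
    g ∈ P.gB ∨ ∃ b ∈ P.gB, ∃ x ∈ P.oX k, g = b * P.sGp k * x := by
  obtain ⟨n, hn, hc⟩ := BN.parabolic_subset P.bnPair
    (J := {P.sGp k}) (Set.singleton_subset_iff.2 ⟨k, rfl⟩) hg
  have hsq := P.sGp_sq k
  have hn' : n ∈ P.gB ∨ n * (P.sGp k)⁻¹ ∈ P.gB := by
    obtain ⟨j, rfl⟩ := Subgroup.mem_closure_singleton.1 hn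
    rcases Int.even_or_odd' j with ⟨m, rfl | rfl⟩
    · left
      rw [zpow_mul, zpow_two]
      exact zpow_mem hsq m
    · right
      rw [zpow_add, zpow_one, mul_inv_cancel_right, zpow_mul, zpow_two]
      exact zpow_mem hsq m
  obtain ⟨b, hb, c, hcB, rfl⟩ := (BN.mem_cell _).1 hc
  rw [P.bnPair_B] at hb hcB
  rcases hn' with h | h
  · exact Or.inl (mul_mem (mul_mem hb h) hcB)
  · right
    obtain ⟨u, hu, d, hd, rfl⟩ := P.mem_gB_iff.1 hcB
    have hu2 : ((d⁻¹ * u * d : ↥Γ) : GL D.Idx K) ∈ D.posUnipotent K :=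
      (Subgroup.mem_normalizer_iff''.1 (P.gH_normalizes_gU hd) u).1 hu
    obtain ⟨v, hv, w, hw, e⟩ := C.exists_keep_mul_inv (O.wO k) hu2
    obtain ⟨hvF, hwF⟩ := T.fix_split (O.wO_mem k) hv hw (e ▸ P.le (d⁻¹ * u * d).2)
    have hvG : v ∈ Γ := P.toPre.U_le ⟨hvF, C.G.Ukeep_le _ hv⟩
    have hwG : w ∈ Γ := P.toPre.X_le k ⟨hwF, hw⟩
    obtain ⟨vv, hvv⟩ : ∃ vv : ↥Γ, (vv : GL D.Idx K) = v := ⟨⟨v, hvG⟩, rfl⟩
    obtain ⟨ww, hww⟩ : ∃ ww : ↥Γ, (ww : GL D.Idx K) = w := ⟨⟨w, hwG⟩, rfl⟩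
    have hwX : ww ∈ P.oX k := P.mem_oX_iff.2 (hww ▸ ⟨hwF, hw⟩)
    have hs : ((P.sGp k : ↥Γ) : GL D.Idx K) = P.toPre.nk k := rfl
    have hsd : P.sGp k * d * (P.sGp k)⁻¹ ∈ P.gB := by
      refine P.gH_le_gB (?_ : ((P.sGp k * d * (P.sGp k)⁻¹ : ↥Γ) : GL D.Idx K) ∈ D.diagonalSubgroup K)
      simp only [Subgroup.coe_mul, Subgroup.coe_inv, hs]
      exact (Subgroup.mem_normalizer_iff.1
        (C.G.monomial_le_normalizer (P.toPre.nk_monomial k)) _).1 hd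
    have hsv : P.sGp k * vv * (P.sGp k)⁻¹ ∈ P.gB := by
      refine P.gU_le_gB (?_ : ((P.sGp k * vv * (P.sGp k)⁻¹ : ↥Γ) : GL D.Idx K) ∈ D.posUnipotent K)
      simp only [Subgroup.coe_mul, Subgroup.coe_inv, hs, hvv]
      exact C.G.conj_Ukeep (P.toPre.nk_perm k) v hv
    have e' : d⁻¹ * u * d = vv * ww := by
      refine Subtype.ext ?_
      rw [Subgroup.coe_mul Γ vv ww, hvv, hww]
      exact e
    generalize P.sGp k = s at h hsd hsv ⊢
    generalize P.oX k = X at hwX ⊢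
    generalize P.gB = B at hb h hsd hsv ⊢
    refine ⟨b * (n * s⁻¹) * (s * d * s⁻¹) * (s * vv * s⁻¹),
      mul_mem (mul_mem (mul_mem hb h) hsd) hsv, ww, hwX, ?_⟩
    rw [show u * d = d * (d⁻¹ * u * d) by group, e']
    group

theorem oP_ne (k : ι) : P.oP k ≠ P.gB := fun h => P.sGp_not_mem k (h.le (P.sGp_mem_oP k))

theorem oP_injective : Function.Injective P.oP := fun i j h =>
  P.sGp_injective (BN.mem_of_parabolic P.bnPair
    (Set.singleton_subset_iff.2 ⟨j, rfl⟩) ⟨i, rfl⟩ (h.le (P.sGp_mem_oP i)))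

theorem exists_sGp_mem_of {M : Subgroup ↥Γ} (h1 : P.gB ≤ M) (h3 : M ≠ P.gB) :
    ∃ j, P.sGp j ∈ M := by
  by_contra hno
  simp only [not_exists] at hno
  refine h3 ?_
  rw [BN.eq_parabolic_of_le P.bnPair M (P.bnPair_B ▸ h1)]
  have : P.bnPair.S ∩ (M : Set _) = ∅ := by
    ext x
    simp only [Set.mem_inter_iff, Set.mem_empty_iff_false, iff_false, not_and]
    rintro ⟨j, rfl⟩
    exact hno j
  rw [this, Cfsg.BNPair.parabolic, Subgroup.closure_empty, sup_bot_eq, P.bnPair_B]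

theorem oP_minimal {i : ι} {M : Subgroup ↥Γ} (h1 : P.gB ≤ M) (h2 : M ≤ P.oP i)
    (h3 : M ≠ P.gB) : M = P.oP i := by
  refine le_antisymm h2 ?_
  obtain ⟨j, hj⟩ := P.exists_sGp_mem_of h1 h3
  have e := P.sGp_injective (BN.mem_of_parabolic P.bnPair
    (Set.singleton_subset_iff.2 ⟨i, rfl⟩) ⟨j, rfl⟩ (h2 hj) : P.sGp j = P.sGp i)
  subst e
  exact sup_le (P.bnPair_B ▸ h1) ((Subgroup.closure_le _).2 (Set.singleton_subset_iff.2 hj))

theorem exists_oP_image (ψ : MulAut ↥Γ) (hψ : P.gB.map ψ.toMonoidHom = P.gB) (i : ι) :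
    ∃ j, (P.oP i).map ψ.toMonoidHom = P.oP j := by
  have hsymm : P.gB.map ψ.symm.toMonoidHom = P.gB := by
    conv_lhs => rw [← hψ]
    rw [Subgroup.map_map]
    convert Subgroup.map_id _
    ext x; simp
  set M := (P.oP i).map ψ.toMonoidHom
  have hBM : P.gB ≤ M := hψ ▸ Subgroup.map_mono (P.gB_le_oP i)
  obtain ⟨j, hj⟩ := P.exists_sGp_mem_of hBM fun h => P.oP_ne i
    (Subgroup.map_injective ψ.injective (h.trans hψ.symm))
  have hle : P.oP j ≤ M :=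
    sup_le (P.bnPair_B ▸ hBM) ((Subgroup.closure_le _).2 (Set.singleton_subset_iff.2 hj))
  refine ⟨j, le_antisymm ?_ hle⟩
  have h1 : (P.oP j).map ψ.symm.toMonoidHom = P.oP i := by
    refine P.oP_minimal (by rw [← hsymm]; exact Subgroup.map_mono (P.gB_le_oP j)) ?_
      fun h => P.oP_ne j ?_
    · refine (Subgroup.map_mono hle).trans ?_
      rw [Subgroup.map_map]
      rintro _ ⟨y, hy, rfl⟩
      simpa using hy
    · exact Subgroup.map_injective ψ.symm.injective (h.trans hsymm.symm)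
  show (P.oP i).map ψ.toMonoidHom ≤ _
  rw [← h1, Subgroup.map_map]
  rintro _ ⟨y, hy, rfl⟩
  simpa using hy

/-! ### automorphisms fixing `U` and `V` -/

theorem map_gB_of_gU {ψ : MulAut ↥Γ} (hU : P.gU.map ψ.toMonoidHom = P.gU) :
    P.gB.map ψ.toMonoidHom = P.gB := by
  rw [← P.normalizer_gU, Subgroup.map_equiv_normalizer_eq, hU]

theorem map_gH_of_gU_gV {ψ : MulAut ↥Γ} (hU : P.gU.map ψ.toMonoidHom = P.gU)
    (hV : P.gV.map ψ.toMonoidHom = P.gV) : P.gH.map ψ.toMonoidHom = P.gH := by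
  rw [← P.gB_inf_normalizer_gV, Subgroup.map_inf _ _ _ ψ.injective, P.map_gB_of_gU hU,
    Subgroup.map_equiv_normalizer_eq, hV]

theorem mMax_inv_mul_mem {ψ : MulAut ↥Γ} (hU : P.gU.map ψ.toMonoidHom = P.gU)
    (hV : P.gV.map ψ.toMonoidHom = P.gV) : P.mMax⁻¹ * ψ P.mMax ∈ P.gH := by
  have key : ∀ X Y : Subgroup ↥Γ, X.map ψ.toMonoidHom = X → Y.map ψ.toMonoidHom = Y →
      X.map (MulAut.conj P.mMax).toMonoidHom = Y →
      P.mMax⁻¹ * ψ P.mMax ∈ Subgroup.normalizer (X : Set ↥Γ) := by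
    intro X Y hX hY h
    have h2 : X.map (MulAut.conj (ψ P.mMax)).toMonoidHom = Y := by
      conv_lhs => rw [← hX, Subgroup.map_map]
      conv_rhs => rw [← hY, ← h, Subgroup.map_map]
      congr 1
      ext x
      simp
    have h3 : X.map (MulAut.conj (P.mMax⁻¹ * ψ P.mMax)).toMonoidHom = X := by
      rw [map_conj_mul, h2, ← h, ← map_conj_mul, inv_mul_cancel, map_one]
      exact Subgroup.map_id _
    rw [Subgroup.mem_normalizer_iff]
    intro y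
    conv_rhs => rw [← h3]
    rw [Subgroup.mem_map_equiv, MulAut.conj_symm_apply]
    simp [mul_assoc]
  rw [← P.gB_inf_normalizer_gV, ← P.normalizer_gU]
  exact Subgroup.mem_inf.2 ⟨key _ _ hU hV P.map_gU, key _ _ hV hU P.map_gV⟩

variable [Fintype K]

theorem gV_isPGroup' (p : ℕ) [Fact p.Prime] [CharP K p] : IsPGroup p ↥P.gV := by
  rw [← P.map_gU]
  exact (P.gU_isPGroup p).map _

theorem oP_inf_gV (k : ι) : P.oP k ⊓ P.gV = P.oY k := by
  classical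
  obtain ⟨p, _⟩ := CharP.exists K
  haveI : Fact p.Prime := ⟨CharP.char_is_prime K p⟩
  haveI : Finite ↥Γ := inferInstance
  have hle : P.oY k ≤ P.oP k ⊓ P.gV := le_inf (P.oY_le_oP k) (P.oY_le_gV k)
  refine (Subgroup.eq_of_le_of_card_ge hle ?_).symm
  have hex : ∀ g : ↥(P.oP k ⊓ P.gV), (g : ↥Γ) ≠ 1 →
      ∃ x : ↥(P.oX k), ∃ b ∈ P.gB, (g : ↥Γ) = b * P.sGp k * x := by
    intro g hg
    rcases P.oP_form g.2.1 with hB | ⟨b, hb, x, hx, e⟩
    · exact absurd (Subgroup.mem_bot.1 (P.gB_inf_gV ▸ Subgroup.mem_inf.2 ⟨hB, g.2.2⟩)) hg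
    · exact ⟨⟨x, hx⟩, b, hb, e⟩
  let F : ↥(P.oP k ⊓ P.gV) → Option ↥(P.oX k) := fun g =>
    if h : (g : ↥Γ) = 1 then none else some (hex g h).choose
  have hF : Function.Injective F := by
    intro g g' e
    by_cases h : (g : ↥Γ) = 1 <;> by_cases h' : (g' : ↥Γ) = 1
    · exact Subtype.ext (h.trans h'.symm)
    · simp only [F, dif_pos h, dif_neg h'] at e; exact absurd e (by simp)
    · simp only [F, dif_neg h, dif_pos h'] at e; exact absurd e (by simp)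
    · simp only [F, dif_neg h, dif_neg h', Option.some_inj] at e
      obtain ⟨b, hb, eb⟩ := (hex g h).choose_spec
      obtain ⟨b', hb', eb'⟩ := (hex g' h').choose_spec
      rw [e] at eb
      have h1 : (g : ↥Γ) * (g' : ↥Γ)⁻¹ ∈ P.gB ⊓ P.gV := by
        refine ⟨?_, Subgroup.mul_mem _ g.2.2 (Subgroup.inv_mem _ g'.2.2)⟩
        have e2 : ∀ (g g' b b' s x : ↥Γ), g = b * s * x → g' = b' * s * x →
            g * g'⁻¹ = b * b'⁻¹ := by
          rintro _ _ b b' s x rfl rfl; group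
        rw [e2 _ _ b b' _ _ eb eb']
        exact Subgroup.mul_mem _ hb (Subgroup.inv_mem _ hb')
      rw [P.gB_inf_gV, Subgroup.mem_bot, mul_inv_eq_one] at h1
      exact Subtype.ext h1
  have hcard := Nat.card_le_card_of_injective F hF
  rw [Finite.card_option, ← P.card_oY] at hcard
  have hV : IsPGroup p ↥(P.oP k ⊓ P.gV : Subgroup ↥Γ) :=
    (P.gV_isPGroup' p).to_le inf_le_right
  obtain ⟨a, ha⟩ := hV.exists_card_eq
  obtain ⟨b, hb⟩ := (hV.to_le hle).exists_card_eq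
  rw [ha, hb] at hcard
  rw [ha, hb]
  have h2 : 2 ≤ p := (Fact.out : p.Prime).two_le
  have hb0 : b ≠ 0 := by
    rintro rfl
    rw [pow_zero, P.card_oY, Nat.card_eq_one_iff_unique] at hb
    obtain ⟨x, hx, hx1⟩ := P.X_ne k
    exact hx1 (congrArg Subtype.val (congrArg Subtype.val (hb.1.elim
      (⟨⟨x, P.toPre.X_le k hx⟩, hx⟩ : ↥(P.oX k)) 1)))
  by_contra hab
  rw [not_le] at hab
  have hlt : b < a := (Nat.pow_lt_pow_iff_right (by omega)).1 hab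
  have h3 : p ^ b * p ≤ p ^ a := by
    rw [← pow_succ]; exact Nat.pow_le_pow_right (by omega) hlt
  have h4 : p ≤ p ^ b := Nat.le_self_pow hb0 p
  nlinarith

/-- elements of the Levi group in `V` -/
theorem mem_oY_of_LJ {k : ι} {g : ↥Γ} (hL : (g : GL D.Idx K) ∈ LJ C.G (O.J k)) (hV : g ∈ P.gV) :
    g ∈ P.oY k := by
  rcases eq_or_ne g 1 with h1 | h1
  · rw [h1]; exact one_mem _
  rw [← P.oP_inf_gV]
  refine ⟨?_, hV⟩
  obtain ⟨b, hb, m, hm, hmπ, u, hu, e⟩ := O.rank_one (P.le g.2) hL hV fun e => h1 (Subtype.ext e)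
  have hbB : (⟨b, P.toPre.X_le k hb⟩ : ↥Γ) ∈ P.oP k :=
    P.gB_le_oP k (P.gU_le_gB (C.G.Uinv_le _ hb.2))
  have huB : (⟨u, P.toPre.X_le k hu⟩ : ↥Γ) ∈ P.oP k :=
    P.gB_le_oP k (P.gU_le_gB (C.G.Uinv_le _ hu.2))
  have hh : m * (P.toPre.nk k)⁻¹ ∈ T.Fix ⊓ D.diagonalSubgroup K := by
    refine Subgroup.mem_inf.2 ⟨mul_mem hm.1 (inv_mem (P.le (P.toPre.nk_mem k))),
      C.G.mem_H_of_nPerm_one (mul_mem hm.2 (inv_mem (P.toPre.nk_monomial k))) ?_⟩
    have := Good.NPerm.mul C.G hmπ (Good.NPerm.inv C.G (P.toPre.nk_perm k))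
    rwa [mul_inv_cancel] at this
  have hhB : (⟨_, P.H_le hh⟩ : ↥Γ) ∈ P.oP k := P.gB_le_oP k (P.gH_le_gB hh.2)
  have h2 := mul_mem (mul_mem hbB (mul_mem hhB (P.sGp_mem_oP k))) huB
  have e2 : g = ⟨b, P.toPre.X_le k hb⟩ * (⟨_, P.H_le hh⟩ * P.sGp k) * ⟨u, P.toPre.X_le k hu⟩ := by
    refine Subtype.ext ?_
    rw [e]
    simp [TwGp.sGp]
  exact e2 ▸ h2

theorem gH_normalizes_oY (k : ι) : P.gH ≤ Subgroup.normalizer (P.oY k : Set ↥Γ) := by
  intro d hd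
  rw [← P.oP_inf_gV, Subgroup.mem_normalizer_iff]
  intro y
  have hdP : d ∈ P.oP k := P.gB_le_oP k (P.gH_le_gB hd)
  rw [Subgroup.mem_inf, Subgroup.mem_inf,
    Subgroup.mem_normalizer_iff.1 (P.gH_normalizes_gV hd) y]
  refine and_congr_left fun _ => ⟨fun h => mul_mem (mul_mem hdP h) (inv_mem hdP), fun h => ?_⟩
  have := mul_mem (mul_mem (inv_mem hdP) h) hdP
  simpa [mul_assoc] using this

variable {ψ : MulAut ↥Γ} (hU : P.gU.map ψ.toMonoidHom = P.gU) (hV : P.gV.map ψ.toMonoidHom = P.gV)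

include hU hV

theorem map_oY (hcard : Function.Injective fun k => Nat.card ↥(P.oX k)) (k : ι) :
    (P.oY k).map ψ.toMonoidHom = P.oY k := by
  obtain ⟨j, hj⟩ := P.exists_oP_image ψ (P.map_gB_of_gU hU) k
  have h : (P.oY k).map ψ.toMonoidHom = P.oY j := by
    rw [← P.oP_inf_gV, ← P.oP_inf_gV, Subgroup.map_inf _ _ _ ψ.injective, hj, hV]
  have hc : Nat.card ↥(P.oX k) = Nat.card ↥(P.oX j) := by
    rw [← P.card_oY, ← P.card_oY, ← h]
    exact Nat.card_congr (Subgroup.equivMapOfInjective _ _ ψ.injective).toEquiv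
  obtain rfl := hcard hc
  exact h

/-- the transported orbit subgroup of `U` is fixed -/
theorem map_conj_oY (hcard : Function.Injective fun k => Nat.card ↥(P.oX k)) (k : ι) :
    ((P.oY k).map (MulAut.conj P.mMax).toMonoidHom).map ψ.toMonoidHom =
      (P.oY k).map (MulAut.conj P.mMax).toMonoidHom := by
  have h0 := P.mMax_inv_mul_mem hU hV
  conv_rhs => rw [← map_conj_of_normalizer (P.gH_normalizes_oY k h0), ← map_conj_mul,
    mul_inv_cancel_left, ← P.map_oY hU hV hcard k]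
  rw [Subgroup.map_map, Subgroup.map_map]
  congr 1
  ext x
  simp

/-- the rank-one decomposition of an element of an opposite orbit subgroup moved by the torus -/
theorem orbit_key {k : ι} (hX : ∀ x ∈ P.oX k, ψ x = x)
    (hC : ∀ y ∈ P.oX k, (∀ h ∈ P.gH, Commute h y) → y = 1) {g : ↥Γ} (hg : g ∈ P.oY k) (hg1 : g ≠ 1)
    {d : ↥Γ} (hd : d ∈ P.gH) (he : ψ g = d * g * d⁻¹) :
    ∃ x ∈ P.oX k, x ≠ 1 ∧ Commute d x ∧ ∃ n : ↥Γ, C.G.NPerm (n : GL D.Idx K) (O.wO k) ∧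
      ∀ h ∈ P.gH, n * h * n⁻¹ ∈ P.gH ∧ (d = 1 → ψ (n * h * n⁻¹) = n * ψ h * n⁻¹) := by
  rcases P.oP_form (P.oY_le_oP k hg) with hB | ⟨b, hb, x, hx, e⟩
  · exact absurd (Subgroup.mem_bot.1 (P.gB_inf_gV ▸ Subgroup.mem_inf.2 ⟨hB, P.oY_le_gV k hg⟩)) hg1
  obtain ⟨u, hu, t, ht, rfl⟩ := P.mem_gB_iff.1 hb
  set n := t * P.sGp k with hn
  have hx1 : x ≠ 1 := by
    rintro rfl
    rw [mul_one] at e
    obtain ⟨y, hy, ey⟩ := hg
    change P.sGp k * y * (P.sGp k)⁻¹ = g at ey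
    have h1 : P.sGp k * y = u * t * (P.sGp k * P.sGp k) := by
      rw [← mul_assoc, ← e, ← ey]; group
    have h2 : P.sGp k * y ∈ P.gB :=
      h1 ▸ mul_mem (mul_mem (P.gU_le_gB hu) (P.gH_le_gB ht)) (P.sGp_sq k)
    refine P.sGp_not_mem k ?_
    have := mul_mem h2 (inv_mem (P.gU_le_gB (P.oX_le_gU k hy)))
    rwa [mul_inv_cancel_right] at this
  have hnP : C.G.NPerm (n : GL D.Idx K) (O.wO k) := by
    have := Good.NPerm.mul C.G (P.nPerm_of_gH ht) (P.toPre.nk_perm k)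
    rwa [one_mul] at this
  have hnN : ∀ h ∈ P.gH, n * h * n⁻¹ ∈ P.gH := fun h hh => by
    refine (Subgroup.mem_normalizer_iff.1 (C.G.monomial_le_normalizer
      (?_ : (n : GL D.Idx K) ∈ D.monomialSubgroup K)) _).1 hh
    exact mul_mem (C.G.H_le_monomial ht) (P.toPre.nk_monomial k)
  have hxd : d * x * d⁻¹ ∈ P.gU :=
    (Subgroup.mem_normalizer_iff.1 (P.gH_normalizes_gU hd) x).1 (P.oX_le_gU k hx)
  have hψu : ψ u ∈ P.gU := by rw [← hU]; exact ⟨u, hu, rfl⟩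
  -- the image of `n`
  have hψn : ψ n = ((ψ u)⁻¹ * (d * u * d⁻¹)) * (d * n * d⁻¹) * (d * x * d⁻¹ * x⁻¹) := by
    have e1 : ψ n = (ψ u)⁻¹ * ψ g * (ψ x)⁻¹ := by
      rw [e, hn, map_mul, map_mul, map_mul, map_mul]; group
    rw [e1, he, hX x hx, e, hn]
    group
  have hN' : ∀ h ∈ P.gH, ψ n * h * (ψ n)⁻¹ ∈ P.gH := fun h hh => by
    obtain ⟨h', hh', rfl⟩ : h ∈ P.gH.map ψ.toMonoidHom := (P.map_gH_of_gU_gV hU hV).symm ▸ hh
    rw [← P.map_gH_of_gU_gV hU hV]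
    exact ⟨_, hnN h' hh', by simp⟩
  set a := (ψ u)⁻¹ * (d * u * d⁻¹) with ha
  set n' := d * n * d⁻¹ with hn'
  set c := d * x * d⁻¹ * x⁻¹ with hc
  have haU : a ∈ P.gU :=
    mul_mem (inv_mem hψu) ((Subgroup.mem_normalizer_iff.1 (P.gH_normalizes_gU hd) u).1 hu)
  have hn'N : ∀ h ∈ P.gH, n' * h * n'⁻¹ ∈ P.gH := fun h hh => by
    have h1 := mul_mem (mul_mem hd (hnN _ (mul_mem (mul_mem (inv_mem hd) hh) hd))) (inv_mem hd)
    convert h1 using 1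
    simp only [hn']; group
  have hcX : c ∈ P.oX k := mul_mem (P.conj_mem_oX hd hx) (inv_mem hx)
  have hcV : n' * c * n'⁻¹ ∈ P.gV := by
    have hn'P : C.G.NPerm (n' : GL D.Idx K) (O.wO k) := by
      have := Good.NPerm.mul C.G (Good.NPerm.mul C.G (P.nPerm_of_gH hd) hnP)
        (Good.NPerm.inv C.G (P.nPerm_of_gH hd))
      rwa [inv_one, mul_one, one_mul] at this
    exact C.G.conj_Uinv hn'P _ hcX.2
  -- `c` commutes with the torus, and so does `a`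
  have hcomm : ∀ h ∈ P.gH, c * h * c⁻¹ = h ∧ a * (n' * h * n'⁻¹) * a⁻¹ = n' * h * n'⁻¹ := by
    intro h hh
    have hh'' := hN' h hh
    rw [hψn] at hh''
    set h'' := a * n' * c * h * (a * n' * c)⁻¹
    have h1 : n' * (c * h * c⁻¹ * h⁻¹) * n'⁻¹ ∈ P.gB ⊓ P.gV := by
      refine Subgroup.mem_inf.2 ⟨?_, ?_⟩
      · have : n' * (c * h * c⁻¹ * h⁻¹) * n'⁻¹ = a⁻¹ * h'' * a * (n' * h * n'⁻¹)⁻¹ := by
          simp only [h'']; group
        rw [this]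
        exact mul_mem (mul_mem (mul_mem (inv_mem (P.gU_le_gB haU)) (P.gH_le_gB hh'')) (P.gU_le_gB haU))
          (inv_mem (P.gH_le_gB (hn'N h hh)))
      · have : n' * (c * h * c⁻¹ * h⁻¹) * n'⁻¹ = (n' * c * n'⁻¹) *
            ((n' * h * n'⁻¹) * (n' * c * n'⁻¹)⁻¹ * (n' * h * n'⁻¹)⁻¹) := by group
        rw [this]
        exact mul_mem hcV ((Subgroup.mem_normalizer_iff.1 (P.gH_normalizes_gV (hn'N h hh)) _).1 (inv_mem hcV))
    rw [P.gB_inf_gV, Subgroup.mem_bot, conj_eq_one_iff, mul_inv_eq_one] at h1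
    refine ⟨h1, ?_⟩
    have h2 : h'' = a * (n' * h * n'⁻¹) * a⁻¹ := by
      calc h'' = a * (n' * (c * h * c⁻¹) * n'⁻¹) * a⁻¹ := by simp only [h'']; group
        _ = _ := by rw [h1]
    rw [h2] at hh''
    set w := n' * h * n'⁻¹
    have h3 : a * w * a⁻¹ * w⁻¹ ∈ P.gU ⊓ P.gH := by
      refine Subgroup.mem_inf.2 ⟨?_, mul_mem hh'' (inv_mem (hn'N h hh))⟩
      rw [show a * w * a⁻¹ * w⁻¹ = a * (w * a⁻¹ * w⁻¹) by group]
      exact mul_mem haU ((Subgroup.mem_normalizer_iff.1 (P.gH_normalizes_gU (hn'N h hh)) _).1 (inv_mem haU))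
    refine mul_inv_eq_one.1 (Subtype.ext ?_)
    exact Subgroup.mem_bot.1 (C.G.U_inf_H (K := K) ▸ Subgroup.mem_inf.2 ⟨h3.1, h3.2⟩)
  have hdx : Commute d x := by
    exact mul_inv_eq_iff_eq_mul.1 (mul_inv_eq_one.1
      (hC c hcX fun h hh => (mul_inv_eq_iff_eq_mul.1 (hcomm h hh).1).symm))
  refine ⟨x, hx, hx1, hdx, n, hnP, fun h hh => ⟨hnN h hh, fun hd1 => ?_⟩⟩
  subst hd1
  obtain ⟨h', hh', eh⟩ : ψ h ∈ P.gH.map ψ.toMonoidHom := ⟨h, hh, rfl⟩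
  have hψh : ψ h ∈ P.gH := P.map_gH_of_gU_gV hU hV ▸ ⟨h, hh, rfl⟩
  have h2 := (hcomm (ψ h) hψh)
  rw [map_mul, map_mul, map_inv, hψn]
  calc a * n' * c * ψ h * (a * n' * c)⁻¹ = a * (n' * (c * ψ h * c⁻¹) * n'⁻¹) * a⁻¹ := by group
    _ = n' * ψ h * n'⁻¹ := by rw [h2.1, h2.2]
    _ = _ := by simp [hn']

end TwGp

end CfsgLib.Lie.Chev
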