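import Cfsg.Agent.Lib.Lie.Chev.Tw.Out.Base
import Cfsg.Agent.Lib.Lie.Chev.Tw.Out.OrbList
import Cfsg.Agent.Lib.AutPSL.Field

/-!
# Parametrised orbit subgroups of a twisted group
-/

set_option autoImplicit false

namespace CfsgLib.Lie.Chev

set_option maxHeartbeats 400000

open Cfsg.Lie
open scoped MatrixGroups

variable {D : ChevalleyDatum} {K : Type*} [Field K] {C : Full D} {T : Twist C.G K} {ι : Type}
  {O : Orbits C.G T.p ι} {Γ : Subgroup (GL D.Idx K)}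

/-- parameters for the orbit subgroups of a twisted group with one field automorphism -/
structure TwPar (P : TwGp O Γ) where
  /-- the field automorphism -/
  θ : RingAut K
  σ_eq : ∀ r x, T.σ r x = θ x
  /-- the nodes of an orbit with their automorphisms -/
  L : ι → List (Fin D.rank × RingAut K)
  /-- the parameters of an orbit -/
  F : ι → Subfield K
  mem_L : ∀ k, ∀ a ∈ L k, a.1 ∈ O.J k
  orth : ∀ k, C.OrthL (L k)
  cover : ∀ i, ∃ k, ∃ a ∈ L k, a.1 = i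
  base : ∀ k, ∃ a ∈ L k, a.2 = 1
  compat : ∀ k, ∀ a ∈ L k, ∀ t ∈ F k, ∃ b ∈ L k, b.1 = T.node a.1 ∧ b.2 t = θ (a.2 t)
  mem_pos : ∀ k, ∀ t ∈ F k, C.pP (L k) t ∈ Γ
  mem_neg : ∀ k, ∀ t ∈ F k, C.pN (L k) t ∈ Γ
  complete : ∀ k, ∀ g ∈ T.Fix ⊓ Uinv C.G (O.wO k), ∃ t ∈ F k, g = C.pP (L k) t
  gen : Γ ≤ Subgroup.closure {g | ∃ k, ∃ t ∈ F k, g = C.pP (L k) t ∨ g = C.pN (L k) t}

namespace TwPar

variable {P : TwGp O Γ} (Q : TwPar P)

theorem L_ne (k : ι) : Q.L k ≠ [] := fun e => by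
  obtain ⟨a, ha, -⟩ := Q.base k
  rw [e] at ha
  exact (List.not_mem_nil ha).elim

theorem nodup (k : ι) : ((Q.L k).map Prod.fst).Nodup := by
  refine List.pairwise_map.2 ((Q.orth k).imp fun {a b} h e => ?_)
  exact (h (C.G.simp' a.1) (by simp) (C.G.simp' b.1) (by simp)).1 (by rw [e])

theorem uniq {k : ι} {a b : Fin D.rank × RingAut K} (ha : a ∈ Q.L k) (hb : b ∈ Q.L k)
    (h : a.1 = b.1) : a = b :=
  List.inj_on_of_nodup_map (Q.nodup k) ha hb h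

/-- an orbit element in the group -/
noncomputable def gX (k : ι) (t : ↥(Q.F k)) : ↥Γ := ⟨C.pP (Q.L k) (t : K), Q.mem_pos k t t.2⟩

/-- an opposite orbit element in the group -/
noncomputable def gY (k : ι) (t : ↥(Q.F k)) : ↥Γ := ⟨C.pN (Q.L k) (t : K), Q.mem_neg k t t.2⟩

theorem gX_add (k : ι) (t u : ↥(Q.F k)) : Q.gX k (t + u) = Q.gX k t * Q.gX k u :=
  Subtype.ext (C.pP_add (Q.orth k) _ _)

theorem gY_add (k : ι) (t u : ↥(Q.F k)) : Q.gY k (t + u) = Q.gY k t * Q.gY k u :=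
  Subtype.ext (C.pN_add (Q.orth k) _ _)

theorem gX_zero (k : ι) : Q.gX k 0 = 1 := Subtype.ext (by
  show C.pP (Q.L k) ((0 : ↥(Q.F k)) : K) = 1
  rw [ZeroMemClass.coe_zero, C.pP_zero])

theorem gY_zero (k : ι) : Q.gY k 0 = 1 := Subtype.ext (by
  show C.pN (Q.L k) ((0 : ↥(Q.F k)) : K) = 1
  rw [ZeroMemClass.coe_zero, C.pN_zero])

theorem gX_inj (k : ι) : Function.Injective (Q.gX k) := fun _ _ h =>
  Subtype.ext (C.pP_injective (Q.orth k) (Q.L_ne k) (congrArg Subtype.val h))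

theorem gY_inj (k : ι) : Function.Injective (Q.gY k) := fun _ _ h =>
  Subtype.ext (C.pN_injective (Q.orth k) (Q.L_ne k) (congrArg Subtype.val h))

theorem gX_inv (k : ι) (t : ↥(Q.F k)) : (Q.gX k t)⁻¹ = Q.gX k (-t) :=
  inv_eq_of_mul_eq_one_right (by rw [← Q.gX_add, add_neg_cancel, Q.gX_zero])

theorem gY_inv (k : ι) (t : ↥(Q.F k)) : (Q.gY k t)⁻¹ = Q.gY k (-t) :=
  inv_eq_of_mul_eq_one_right (by rw [← Q.gY_add, add_neg_cancel, Q.gY_zero])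

theorem gX_mem_gU (k : ι) (t : ↥(Q.F k)) : Q.gX k t ∈ P.gU :=
  list_prod_mem (S := D.posUnipotent K) fun x hx => by
    obtain ⟨a, -, rfl⟩ := List.mem_map.1 hx
    exact C.G.xu_mem_U (C.G.simp_pos _) _

theorem gY_mem_gV (k : ι) (t : ↥(Q.F k)) : Q.gY k t ∈ P.gV :=
  list_prod_mem (S := D.negUnipotent K) fun x hx => by
    obtain ⟨a, -, rfl⟩ := List.mem_map.1 hx
    exact C.G.xu_mem_V ((C.G.isNegRoot_iff_not_pos _).2 (C.G.negr_simp_not_pos _)) _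

theorem eq_zero_of_gX_eq_gY {k l : ι} {t : ↥(Q.F k)} {u : ↥(Q.F l)} (h : Q.gX k t = Q.gY l u) :
    t = 0 ∧ u = 0 := by
  have h1 : Q.gX k t ∈ P.gB ⊓ P.gV := ⟨P.gU_le_gB (Q.gX_mem_gU k t), h ▸ Q.gY_mem_gV l u⟩
  rw [P.gB_inf_gV, Subgroup.mem_bot] at h1
  refine ⟨Q.gX_inj k (h1.trans (Q.gX_zero k).symm), Q.gY_inj l ?_⟩
  rw [Q.gY_zero, ← h, h1]

/-- an orbit subgroup -/
noncomputable def gXs (k : ι) : Subgroup ↥Γ where
  carrier := Set.range (Q.gX k)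
  mul_mem' := by rintro _ _ ⟨t, rfl⟩ ⟨u, rfl⟩; exact ⟨t + u, Q.gX_add k t u⟩
  one_mem' := ⟨0, Q.gX_zero k⟩
  inv_mem' := by rintro _ ⟨t, rfl⟩; exact ⟨-t, (Q.gX_inv k t).symm⟩

/-- an opposite orbit subgroup -/
noncomputable def gYs (k : ι) : Subgroup ↥Γ where
  carrier := Set.range (Q.gY k)
  mul_mem' := by rintro _ _ ⟨t, rfl⟩ ⟨u, rfl⟩; exact ⟨t + u, Q.gY_add k t u⟩
  one_mem' := ⟨0, Q.gY_zero k⟩
  inv_mem' := by rintro _ ⟨t, rfl⟩; exact ⟨-t, (Q.gY_inv k t).symm⟩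

theorem card_gXs (k : ι) : Nat.card ↥(Q.gXs k) = Nat.card ↥(Q.F k) :=
  (Nat.card_eq_of_bijective (fun t => (⟨Q.gX k t, t, rfl⟩ : ↥(Q.gXs k)))
    ⟨fun _ _ h => Q.gX_inj k (congrArg Subtype.val h), fun ⟨_, t, e⟩ => ⟨t, Subtype.ext e⟩⟩).symm

theorem card_gYs (k : ι) : Nat.card ↥(Q.gYs k) = Nat.card ↥(Q.F k) :=
  (Nat.card_eq_of_bijective (fun t => (⟨Q.gY k t, t, rfl⟩ : ↥(Q.gYs k)))
    ⟨fun _ _ h => Q.gY_inj k (congrArg Subtype.val h), fun ⟨_, t, e⟩ => ⟨t, Subtype.ext e⟩⟩).symm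

theorem simp_mem_Uinv {k : ι} {j : Fin D.rank} (hj : j ∈ O.J k) (t : K) :
    C.G.xu (C.G.simp' j) t ∈ (Uinv C.G (O.wO k) : Subgroup (GL D.Idx K)) :=
  Subgroup.subset_closure ⟨_, t, ⟨C.G.simp_pos j, O.wO_simp_neg hj⟩, rfl⟩

theorem gX_mem_Uinv (k : ι) (t : ↥(Q.F k)) :
    (Q.gX k t : GL D.Idx K) ∈ T.Fix ⊓ Uinv C.G (O.wO k) :=
  ⟨P.le (Q.gX k t).2, list_prod_mem (S := (Uinv C.G (O.wO k) : Subgroup (GL D.Idx K))) fun x hx => by
    obtain ⟨a, ha, rfl⟩ := List.mem_map.1 hx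
    exact simp_mem_Uinv (Q.mem_L k a ha) _⟩

theorem mem_gXs_iff {k : ι} {g : ↥Γ} :
    g ∈ Q.gXs k ↔ (g : GL D.Idx K) ∈ T.Fix ⊓ Uinv C.G (O.wO k) := by
  constructor
  · rintro ⟨t, rfl⟩; exact Q.gX_mem_Uinv k t
  · intro h
    obtain ⟨t, ht, e⟩ := Q.complete k _ h
    exact ⟨⟨t, ht⟩, Subtype.ext e.symm⟩

/-! ### the minimal parabolic subgroups -/

/-- the minimal parabolic subgroup of an orbit -/
noncomputable def gPar (_ : TwPar P) (k : ι) : Subgroup ↥Γ := P.bnPair.parabolic {P.sGp k}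

theorem gB_le_gPar (k : ι) : P.gB ≤ Q.gPar k := by
  rw [← P.bnPair_B]; exact le_sup_left

theorem sGp_mem_gPar (k : ι) : P.sGp k ∈ Q.gPar k :=
  (le_sup_right : Subgroup.closure {P.sGp k} ≤ Q.gPar k) (Subgroup.subset_closure rfl)

theorem gY_mem_gPar (k : ι) (t : ↥(Q.F k)) : Q.gY k t ∈ Q.gPar k := by
  rcases eq_or_ne (Q.gY k t) 1 with h1 | h1
  · rw [h1]; exact one_mem _
  have hL : (Q.gY k t : GL D.Idx K) ∈ (LJ C.G (O.J k) : Subgroup (GL D.Idx K)) :=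
    list_prod_mem fun x hx => by
      obtain ⟨a, ha, rfl⟩ := List.mem_map.1 hx
      exact Subgroup.subset_closure ⟨_, _, C.G.inJ_negr (C.G.inJ_simp (Q.mem_L k a ha)), rfl⟩
  obtain ⟨b, hb, m, hm, hmπ, u, hu, e⟩ := O.rank_one (P.le (Q.gY k t).2) hL (Q.gY_mem_gV k t)
    fun e => h1 (Subtype.ext e)
  have hbB : (⟨b, P.toPre.X_le k hb⟩ : ↥Γ) ∈ Q.gPar k :=
    Q.gB_le_gPar k (P.gU_le_gB (C.G.Uinv_le _ hb.2))
  have huB : (⟨u, P.toPre.X_le k hu⟩ : ↥Γ) ∈ Q.gPar k :=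
    Q.gB_le_gPar k (P.gU_le_gB (C.G.Uinv_le _ hu.2))
  have hh : m * (P.toPre.nk k)⁻¹ ∈ T.Fix ⊓ D.diagonalSubgroup K := by
    refine Subgroup.mem_inf.2 ⟨mul_mem hm.1 (inv_mem (P.le (P.toPre.nk_mem k))),
      C.G.mem_H_of_nPerm_one (mul_mem hm.2 (inv_mem (P.toPre.nk_monomial k))) ?_⟩
    have := Good.NPerm.mul C.G hmπ (Good.NPerm.inv C.G (P.toPre.nk_perm k))
    rwa [mul_inv_cancel] at this
  have hhB : (⟨_, P.H_le hh⟩ : ↥Γ) ∈ Q.gPar k := Q.gB_le_gPar k (P.gH_le_gB hh.2)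
  convert mul_mem (mul_mem hbB (mul_mem hhB (Q.sGp_mem_gPar k))) huB using 1
  refine Subtype.ext ?_
  rw [e]
  simp [TwGp.sGp]

theorem gPar_form {k : ι} {g : ↥Γ} (hg : g ∈ Q.gPar k) :
    g ∈ P.gB ∨ ∃ b ∈ P.gB, ∃ x ∈ Q.gXs k, g = b * P.sGp k * x := by
  obtain ⟨n, hn, hc⟩ := BN.parabolic_subset P.bnPair
    (J := {P.sGp k}) (Set.singleton_subset_iff.2 ⟨k, rfl⟩) hg
  have hsq : P.sGp k * P.sGp k ∈ P.gB := by
    rw [← P.bnPair_B]; exact P.bnPair.sq_mem _ ⟨k, rfl⟩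
  have hn' : n ∈ P.gB ∨ n * (P.sGp k)⁻¹ ∈ P.gB := by
    obtain ⟨j, rfl⟩ := Subgroup.mem_closure_singleton.1 hn
    rcases Int.even_or_odd' j with ⟨m, rfl | rfl⟩
    · left
      rw [zpow_mul, zpow_two]
      exact zpow_mem hsq m
    · right
      rw [zpow_add, zpow_one, mul_inv_cancel_right, zpow_mul, zpow_two]
      exact zpow_mem hsq m
  obtain ⟨b, hb, c, hcB, rfl⟩ := (BN.mem_cell _).1 hc
  rw [P.bnPair_B] at hb hcB
  rcases hn' with h | h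
  · exact Or.inl (mul_mem (mul_mem hb h) hcB)
  · right
    obtain ⟨u, hu, d, hd, rfl⟩ := P.mem_gB_iff.1 hcB
    have hu2 : ((d⁻¹ * u * d : ↥Γ) : GL D.Idx K) ∈ D.posUnipotent K :=
      (Subgroup.mem_normalizer_iff''.1 (P.gH_normalizes_gU hd) u).1 hu
    obtain ⟨v, hv, w, hw, e⟩ := C.exists_keep_mul_inv (O.wO k) hu2
    obtain ⟨hvF, hwF⟩ := T.fix_split (O.wO_mem k) hv hw (e ▸ P.le (d⁻¹ * u * d).2)
    have hvG : v ∈ Γ := P.toPre.U_le ⟨hvF, C.G.Ukeep_le _ hv⟩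
    have hwG : w ∈ Γ := P.toPre.X_le k ⟨hwF, hw⟩
    obtain ⟨vv, hvv⟩ : ∃ vv : ↥Γ, (vv : GL D.Idx K) = v := ⟨⟨v, hvG⟩, rfl⟩
    obtain ⟨ww, hww⟩ : ∃ ww : ↥Γ, (ww : GL D.Idx K) = w := ⟨⟨w, hwG⟩, rfl⟩
    have hwX : ww ∈ Q.gXs k := Q.mem_gXs_iff.2 (hww ▸ ⟨hwF, hw⟩)
    have hs : ((P.sGp k : ↥Γ) : GL D.Idx K) = P.toPre.nk k := rfl
    have hsd : P.sGp k * d * (P.sGp k)⁻¹ ∈ P.gB := by
      refine P.gH_le_gB (?_ : ((P.sGp k * d * (P.sGp k)⁻¹ : ↥Γ) : GL D.Idx K) ∈ D.diagonalSubgroup K)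
      simp only [Subgroup.coe_mul, Subgroup.coe_inv, hs]
      exact (Subgroup.mem_normalizer_iff.1
        (C.G.monomial_le_normalizer (P.toPre.nk_monomial k)) _).1 hd
    have hsv : P.sGp k * vv * (P.sGp k)⁻¹ ∈ P.gB := by
      refine P.gU_le_gB (?_ : ((P.sGp k * vv * (P.sGp k)⁻¹ : ↥Γ) : GL D.Idx K) ∈ D.posUnipotent K)
      simp only [Subgroup.coe_mul, Subgroup.coe_inv, hs, hvv]
      exact C.G.conj_Ukeep (P.toPre.nk_perm k) v hv
    have e' : d⁻¹ * u * d = vv * ww := by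
      refine Subtype.ext ?_
      rw [Subgroup.coe_mul Γ vv ww, hvv, hww]
      exact e
    generalize P.sGp k = s at h hsd hsv ⊢
    generalize Q.gXs k = X at hwX ⊢
    generalize P.gB = B at hb h hsd hsv ⊢
    refine ⟨b * (n * s⁻¹) * (s * d * s⁻¹) * (s * vv * s⁻¹),
      mul_mem (mul_mem (mul_mem hb h) hsd) hsv, ww, hwX, ?_⟩
    rw [show u * d = d * (d⁻¹ * u * d) by group, e']
    group

variable [Fintype K]

include P in
theorem gV_isPGroup (p : ℕ) [Fact p.Prime] [CharP K p] : IsPGroup p ↥P.gV := by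
  rw [← P.map_gU]
  exact (P.gU_isPGroup p).map _

theorem gPar_inf_gV (k : ι) : Q.gPar k ⊓ P.gV = Q.gYs k := by
  classical
  obtain ⟨p, _⟩ := CharP.exists K
  haveI : Fact p.Prime := ⟨CharP.char_is_prime K p⟩
  haveI : Finite ↥Γ := inferInstance
  have hle : Q.gYs k ≤ Q.gPar k ⊓ P.gV := by
    rintro _ ⟨t, rfl⟩; exact ⟨Q.gY_mem_gPar k t, Q.gY_mem_gV k t⟩
  refine (Subgroup.eq_of_le_of_card_ge hle ?_).symm
  have hex : ∀ g : ↥(Q.gPar k ⊓ P.gV), (g : ↥Γ) ≠ 1 →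
      ∃ x : ↥(Q.gXs k), ∃ b ∈ P.gB, (g : ↥Γ) = b * P.sGp k * x := by
    intro g hg
    rcases Q.gPar_form g.2.1 with hB | ⟨b, hb, x, hx, e⟩
    · exact absurd (Subgroup.mem_bot.1 (P.gB_inf_gV ▸ Subgroup.mem_inf.2 ⟨hB, g.2.2⟩)) hg
    · exact ⟨⟨x, hx⟩, b, hb, e⟩
  let F : ↥(Q.gPar k ⊓ P.gV) → Option ↥(Q.gXs k) := fun g =>
    if h : (g : ↥Γ) = 1 then none else some (hex g h).choose
  have hF : Function.Injective F := by
    intro g g' e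
    by_cases h : (g : ↥Γ) = 1 <;> by_cases h' : (g' : ↥Γ) = 1
    · exact Subtype.ext (h.trans h'.symm)
    · simp only [F, dif_pos h, dif_neg h'] at e; exact absurd e (by simp)
    · simp only [F, dif_neg h, dif_pos h'] at e; exact absurd e (by simp)
    · simp only [F, dif_neg h, dif_neg h', Option.some_inj] at e
      obtain ⟨b, hb, eb⟩ := (hex g h).choose_spec
      obtain ⟨b', hb', eb'⟩ := (hex g' h').choose_spec
      rw [e] at eb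
      have h1 : (g : ↥Γ) * (g' : ↥Γ)⁻¹ ∈ P.gB ⊓ P.gV := by
        refine ⟨?_, Subgroup.mul_mem _ g.2.2 (Subgroup.inv_mem _ g'.2.2)⟩
        have e2 : ∀ (g g' b b' s x : ↥Γ), g = b * s * x → g' = b' * s * x →
            g * g'⁻¹ = b * b'⁻¹ := by
          rintro _ _ b b' s x rfl rfl; group
        rw [e2 _ _ b b' _ _ eb eb']
        exact Subgroup.mul_mem _ hb (Subgroup.inv_mem _ hb')
      rw [P.gB_inf_gV, Subgroup.mem_bot, mul_inv_eq_one] at h1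
      exact Subtype.ext h1
  have hcard := Nat.card_le_card_of_injective F hF
  rw [Finite.card_option, Q.card_gXs, ← Q.card_gYs] at hcard
  have hV : IsPGroup p ↥(Q.gPar k ⊓ P.gV : Subgroup ↥Γ) :=
    (gV_isPGroup (P := P) p).to_le inf_le_right
  obtain ⟨a, ha⟩ := hV.exists_card_eq
  obtain ⟨b, hb⟩ := (hV.to_le hle).exists_card_eq
  rw [ha, hb] at hcard
  rw [ha, hb]
  have h2 : 2 ≤ p := (Fact.out : p.Prime).two_le
  have hb0 : b ≠ 0 := by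
    rintro rfl
    rw [pow_zero, Q.card_gYs] at hb
    have := Finite.one_lt_card (α := ↥(Q.F k))
    omega
  by_contra hab
  rw [not_le] at hab
  have hlt : b < a := (Nat.pow_lt_pow_iff_right (by omega)).1 hab
  have h3 : p ^ b * p ≤ p ^ a := by
    rw [← pow_succ]; exact Nat.pow_le_pow_right (by omega) hlt
  have h4 : p ≤ p ^ b := Nat.le_self_pow hb0 p
  nlinarith

omit [Fintype K] in
theorem gPar_ne (k : ι) : Q.gPar k ≠ P.gB := fun h =>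
  BN.not_mem_B P.bnPair (s := P.sGp k) ⟨k, rfl⟩ (by rw [P.bnPair_B]; exact h.le (Q.sGp_mem_gPar k))

theorem gPar_injective : Function.Injective Q.gPar := fun i j h =>
  P.sGp_injective (BN.mem_of_parabolic P.bnPair
    (Set.singleton_subset_iff.2 ⟨j, rfl⟩) ⟨i, rfl⟩ (h.le (Q.sGp_mem_gPar i)))

theorem exists_sGp_mem {M : Subgroup ↥Γ} (h1 : P.gB ≤ M) (h3 : M ≠ P.gB) :
    ∃ j, P.sGp j ∈ M := by
  by_contra hno
  simp only [not_exists] at hno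
  refine h3 ?_
  rw [BN.eq_parabolic_of_le P.bnPair M (P.bnPair_B ▸ h1)]
  have : P.bnPair.S ∩ (M : Set _) = ∅ := by
    ext x
    simp only [Set.mem_inter_iff, Set.mem_empty_iff_false, iff_false, not_and]
    rintro ⟨j, rfl⟩
    exact hno j
  rw [this, Cfsg.BNPair.parabolic, Subgroup.closure_empty, sup_bot_eq, P.bnPair_B]

theorem gPar_minimal {i : ι} {M : Subgroup ↥Γ} (h1 : P.gB ≤ M) (h2 : M ≤ Q.gPar i)
    (h3 : M ≠ P.gB) : M = Q.gPar i := by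
  refine le_antisymm h2 ?_
  obtain ⟨j, hj⟩ := exists_sGp_mem h1 h3
  have e := P.sGp_injective (BN.mem_of_parabolic P.bnPair
    (Set.singleton_subset_iff.2 ⟨i, rfl⟩) ⟨j, rfl⟩ (h2 hj) : P.sGp j = P.sGp i)
  subst e
  exact sup_le (P.bnPair_B ▸ h1) ((Subgroup.closure_le _).2 (Set.singleton_subset_iff.2 hj))

theorem exists_gPar_perm [Finite ι] (ψ : MulAut ↥Γ) (hψ : P.gB.map ψ.toMonoidHom = P.gB) :
    ∃ π : Equiv.Perm ι, ∀ i, (Q.gPar i).map ψ.toMonoidHom = Q.gPar (π i) := by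
  have hsymm : P.gB.map ψ.symm.toMonoidHom = P.gB := by
    conv_lhs => rw [← hψ]
    rw [Subgroup.map_map]
    convert Subgroup.map_id _
    ext x; simp
  have h : ∀ i, ∃ j, (Q.gPar i).map ψ.toMonoidHom = Q.gPar j := by
    intro i
    set M := (Q.gPar i).map ψ.toMonoidHom
    have hBM : P.gB ≤ M := hψ ▸ Subgroup.map_mono (Q.gB_le_gPar i)
    obtain ⟨j, hj⟩ := exists_sGp_mem hBM fun h => Q.gPar_ne i
      (Subgroup.map_injective ψ.injective (h.trans hψ.symm))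
    have hle : Q.gPar j ≤ M :=
      sup_le (P.bnPair_B ▸ hBM) ((Subgroup.closure_le _).2 (Set.singleton_subset_iff.2 hj))
    refine ⟨j, le_antisymm ?_ hle⟩
    have h1 : (Q.gPar j).map ψ.symm.toMonoidHom = Q.gPar i := by
      refine Q.gPar_minimal (by rw [← hsymm]; exact Subgroup.map_mono (Q.gB_le_gPar j)) ?_
        fun h => Q.gPar_ne j ?_
      · refine (Subgroup.map_mono hle).trans ?_
        rw [Subgroup.map_map]
        rintro _ ⟨y, hy, rfl⟩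
        simpa using hy
      · exact Subgroup.map_injective ψ.symm.injective (h.trans hsymm.symm)
    show (Q.gPar i).map ψ.toMonoidHom ≤ _
    rw [← h1, Subgroup.map_map]
    rintro _ ⟨y, hy, rfl⟩
    simpa using hy
  choose f hf using h
  have hinj : Function.Injective f := fun i j hij => Q.gPar_injective
    (Subgroup.map_injective ψ.injective ((hf i).trans ((congrArg Q.gPar hij).trans (hf j).symm)))
  exact ⟨Equiv.ofBijective f (Finite.injective_iff_bijective.1 hinj), hf⟩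

theorem map_gB {ψ : MulAut ↥Γ} (hU : P.gU.map ψ.toMonoidHom = P.gU) :
    P.gB.map ψ.toMonoidHom = P.gB := by
  rw [← P.normalizer_gU, Subgroup.map_equiv_normalizer_eq, hU]

theorem exists_gYs_perm [Finite ι] (ψ : MulAut ↥Γ) (hU : P.gU.map ψ.toMonoidHom = P.gU)
    (hV : P.gV.map ψ.toMonoidHom = P.gV) :
    ∃ π : Equiv.Perm ι, ∀ i, (Q.gYs i).map ψ.toMonoidHom = Q.gYs (π i) := by
  obtain ⟨π, hπ⟩ := Q.exists_gPar_perm ψ (map_gB hU)
  exact ⟨π, fun i => by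
    rw [← Q.gPar_inf_gV, ← Q.gPar_inf_gV, Subgroup.map_inf _ _ _ ψ.injective, hπ, hV]⟩

end TwPar

end CfsgLib.Lie.Chev
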