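import Cfsg.Agent.Lib.Lie.Chev.Tw.Out.ParStd
import Cfsg.Prelude.Def_KGroupFacts

/-!
# The order of the outer automorphism group of a twisted group
-/

set_option autoImplicit false
set_option maxHeartbeats 400000

namespace CfsgLib.Lie.Chev

open Cfsg.Lie
open scoped MatrixGroups

variable {D : ChevalleyDatum} {K : Type*} [Field K] {C : Full D} {T : Twist C.G K} {ι : Type}
  {O : Orbits C.G T.p ι} {Γ : Subgroup (GL D.Idx K)}

namespace TwPar

variable {P : TwGp O Γ} (Q : TwPar P)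

theorem ringAut_comm [Finite K] (a b : RingAut K) (x : K) : a (b x) = b (a x) := by
  have := Fintype.ofFinite K
  obtain ⟨p, _⟩ := CharP.exists K
  haveI : Fact p.Prime := ⟨CharP.char_is_prime K p⟩
  obtain ⟨n, -, hcard⟩ := FiniteField.card K p
  obtain ⟨e⟩ := CfsgLib.AutPSL.exists_ringAut_equiv (F := K) hcard
  exact DFunLike.congr_fun (e.injective (by rw [map_mul, map_mul, mul_comm]) : a * b = b * a) x

variable [Fintype K]

include Q in
theorem fmap_mem (τ : RingAut K) {g : GL D.Idx K} (hg : g ∈ Γ) :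
    fmap D (τ.toRingHom : K →+* K) g ∈ Γ := by
  rw [P.eq_Fix] at hg ⊢
  obtain ⟨hgG, e⟩ := T.mem_Fix.1 hg
  refine T.mem_Fix.2 ⟨C.G.fmap_mem_group _ hgG, ?_⟩
  have h := C.G.hom_ext_simple (φ := T.φ.comp (C.fieldAut τ).toMonoidHom)
    (ψ := (C.fieldAut τ).toMonoidHom.comp T.φ) (fun i t => ?_) fun i t => ?_
  · have h1 : T.φ (C.fieldAut τ ⟨g, hgG⟩) = C.fieldAut τ (T.φ ⟨g, hgG⟩) :=
      DFunLike.congr_fun h _
    rw [e] at h1
    exact h1
  · show T.φ (C.fieldAut τ (C.aX _ t)) = C.fieldAut τ (T.φ (C.aX _ t))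
    rw [C.fieldAut_aX, Full.aX, Full.aX, T.φ_xu, T.φ_xu, T.eps_simp, one_mul, one_mul, Q.σ_eq, Q.σ_eq]
    exact (C.fieldAut_aX τ _ _).trans (by rw [ringAut_comm]; rfl) |>.symm
  · show T.φ (C.fieldAut τ (C.aX _ t)) = C.fieldAut τ (T.φ (C.aX _ t))
    rw [C.fieldAut_aX, Full.aX, Full.aX, T.φ_xu, T.φ_xu, T.eps_negr, one_mul, one_mul, Q.σ_eq, Q.σ_eq]
    exact (C.fieldAut_aX τ _ _).trans (by rw [ringAut_comm]; rfl) |>.symm

/-- a field automorphism of the twisted group -/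
noncomputable def fieldG (τ : RingAut K) : MulAut ↥Γ where
  toFun g := ⟨fmap D (τ.toRingHom : K →+* K) g.1, Q.fmap_mem τ g.2⟩
  invFun g := ⟨fmap D (τ.symm.toRingHom : K →+* K) g.1, Q.fmap_mem τ⁻¹ g.2⟩
  left_inv g := Subtype.ext (by
    show fmap D _ (fmap D _ (g : GL D.Idx K)) = (g : GL D.Idx K)
    rw [fmap_fmap]; simp [fmap_id])
  right_inv g := Subtype.ext (by
    show fmap D _ (fmap D _ (g : GL D.Idx K)) = (g : GL D.Idx K)
    rw [fmap_fmap]; simp [fmap_id])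
  map_mul' g h := Subtype.ext (map_mul (fmap D τ.toRingHom) (g : GL D.Idx K) h)

/-- the field automorphisms as a homomorphism -/
noncomputable def fieldGHom : RingAut K →* MulAut ↥Γ :=
  MonoidHom.mk' Q.fieldG fun a b => MulEquiv.ext fun g => Subtype.ext (by
    show fmap D ((a * b).toRingHom) (g : GL D.Idx K) =
      fmap D a.toRingHom (fmap D b.toRingHom (g : GL D.Idx K))
    rw [fmap_fmap]
    rfl)

theorem map_mem_F (τ : RingAut K) (k : ι) (t : ↥(Q.F k)) : τ (t : K) ∈ Q.F k := by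
  have h1 : fmap D (τ.toRingHom : K →+* K) (C.pP (Q.L k) (t : K)) = C.pP (Q.L k) (τ (t : K)) :=
    C.fmap_pP τ _ fun a _ x => ringAut_comm _ _ x
  have h2 : C.pP (Q.L k) (τ (t : K)) ∈ T.Fix ⊓ Uinv C.G (O.wO k) := by
    refine ⟨P.le (h1 ▸ Q.fmap_mem τ (Q.mem_pos k _ t.2)), ?_⟩
    exact list_prod_mem (S := (Uinv C.G (O.wO k) : Subgroup (GL D.Idx K))) fun x hx => by
      obtain ⟨a, ha, rfl⟩ := List.mem_map.1 hx
      exact simp_mem_Uinv (Q.mem_L k a ha) _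
  obtain ⟨u, hu, e⟩ := Q.complete k _ h2
  rwa [C.pP_injective (Q.orth k) (Q.L_ne k) e]

theorem fieldG_gX (τ : RingAut K) (k : ι) (t : ↥(Q.F k)) :
    Q.fieldGHom τ (Q.gX k t) = Q.gX k ⟨τ t, Q.map_mem_F τ k t⟩ ∧
      Q.fieldGHom τ (Q.gY k t) = Q.gY k ⟨τ t, Q.map_mem_F τ k t⟩ :=
  ⟨Subtype.ext (C.fmap_pP τ _ fun _ _ x => ringAut_comm _ _ x),
    Subtype.ext (C.fmap_pN τ _ fun _ _ x => ringAut_comm _ _ x)⟩

omit [Fintype K] in
theorem aut_ext {φ ψ : MulAut ↥Γ}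
    (h : ∀ k t, φ (Q.gX k t) = ψ (Q.gX k t) ∧ φ (Q.gY k t) = ψ (Q.gY k t)) : φ = ψ := by
  refine MulEquiv.ext fun g => ?_
  have hle : Γ ≤ (MonoidHom.eqLocus φ.toMonoidHom ψ.toMonoidHom).map Γ.subtype := by
    refine Q.gen.trans ((Subgroup.closure_le _).2 ?_)
    rintro _ ⟨k, t, ht, rfl | rfl⟩
    · exact ⟨Q.gX k ⟨t, ht⟩, (h k _).1, rfl⟩
    · exact ⟨Q.gY k ⟨t, ht⟩, (h k _).2, rfl⟩
  obtain ⟨y, hy, e⟩ := hle g.2
  exact (Subtype.ext e : y = g) ▸ hy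

omit [Fintype K] in
theorem tor_mem_parGrp (Q : TwPar P) {c : Fin D.rank → Kˣ} (hc : C.G.tor c ∈ Γ) :
    c ∈ parGrp T := by
  show T.σT c = c
  funext j
  obtain ⟨i, rfl⟩ := T.node.surjective j
  have hF : C.G.tor c ∈ T.Fix := P.le hc
  obtain ⟨hG, e⟩ := T.mem_Fix.1 hF
  have h1 := φ_torAut (T := T) c (C.aX (C.G.simp' i) 1)
  have h2 : C.torAut c (C.aX (C.G.simp' i) 1) =
      (⟨C.G.tor c, hG⟩ : ↥(D.group K)) * C.aX (C.G.simp' i) 1 * ⟨C.G.tor c, hG⟩⁻¹ := rfl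
  have hx : T.φ (C.aX (C.G.simp' i) (1 : K)) = C.aX (C.G.simp' (T.node i)) 1 := by
    rw [Full.aX, T.φ_xu, T.eps_simp, one_mul, map_one]
    exact Subtype.ext (by rw [T.p_simp]; rfl)
  rw [h2, map_mul, map_mul, map_inv, e, hx] at h1
  have h3 : C.torAut c (C.aX (C.G.simp' (T.node i)) (1 : K)) =
      C.torAut (T.σT c) (C.aX (C.G.simp' (T.node i)) 1) := h1
  rw [C.torAut_simp, C.torAut_simp, mul_one, mul_one] at h3
  exact Units.ext (C.aX_inj h3).symm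

theorem map_eq_of_le {G : Type*} [Group G] [Finite G] (ψ : MulAut G) (X : Subgroup G)
    (h : X.map ψ.toMonoidHom ≤ X) : X.map ψ.toMonoidHom = X :=
  Subgroup.eq_of_le_of_card_ge h
    (Nat.card_congr (Subgroup.equivMapOfInjective X _ ψ.injective).toEquiv).le

theorem torG_preserves (c : ↥(parGrp T)) :
    P.gU.map (Q.torGHom c).toMonoidHom ≤ P.gU ∧ P.gV.map (Q.torGHom c).toMonoidHom ≤ P.gV := by
  have key : ∀ A : Fin D.nroots → Prop, ∀ g : GL D.Idx K,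
      g ∈ Subgroup.closure {g : GL D.Idx K | ∃ r t, A r ∧ g = C.G.xu r t} →
      C.G.tor c.1 * g * (C.G.tor c.1)⁻¹ ∈
        Subgroup.closure {g : GL D.Idx K | ∃ r t, A r ∧ g = C.G.xu r t} := by
    intro A g hg
    induction hg using Subgroup.closure_induction with
    | one => simp
    | mul a b _ _ ha hb =>
      rw [show C.G.tor c.1 * (a * b) * (C.G.tor c.1)⁻¹ = (C.G.tor c.1 * a * (C.G.tor c.1)⁻¹) *
        (C.G.tor c.1 * b * (C.G.tor c.1)⁻¹) by group]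
      exact mul_mem ha hb
    | inv a _ ha =>
      rw [show C.G.tor c.1 * a⁻¹ * (C.G.tor c.1)⁻¹ = (C.G.tor c.1 * a * (C.G.tor c.1)⁻¹)⁻¹ by group]
      exact inv_mem ha
    | mem x hx =>
      obtain ⟨r, t, hr, rfl⟩ := hx
      rw [C.G.tor_conj_xu]
      exact Subgroup.subset_closure ⟨r, _, hr, rfl⟩
  constructor <;> rintro _ ⟨y, hy, rfl⟩
  · show C.G.tor c.1 * (y : GL D.Idx K) * (C.G.tor c.1)⁻¹ ∈ D.posUnipotent K
    have hy' : (y : GL D.Idx K) ∈ D.posUnipotent K := hy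
    rw [C.G.posUnipotent_eq_closure] at hy' ⊢
    exact key _ _ hy'
  · show C.G.tor c.1 * (y : GL D.Idx K) * (C.G.tor c.1)⁻¹ ∈ D.negUnipotent K
    have hy' : (y : GL D.Idx K) ∈ D.negUnipotent K := hy
    rw [C.G.negUnipotent_eq_closure] at hy' ⊢
    exact key _ _ hy'

theorem fieldG_preserves (τ : RingAut K) :
    P.gU.map (Q.fieldGHom τ).toMonoidHom ≤ P.gU ∧ P.gV.map (Q.fieldGHom τ).toMonoidHom ≤ P.gV := by
  have key : ∀ A : Fin D.nroots → Prop, ∀ g : GL D.Idx K,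
      g ∈ Subgroup.closure {g : GL D.Idx K | ∃ r t, A r ∧ g = C.G.xu r t} →
      fmap D (τ.toRingHom : K →+* K) g ∈
        Subgroup.closure {g : GL D.Idx K | ∃ r t, A r ∧ g = C.G.xu r t} := by
    intro A g hg
    have h1 := Subgroup.mem_map_of_mem (fmap D (τ.toRingHom : K →+* K)) hg
    rw [MonoidHom.map_closure] at h1
    refine Subgroup.closure_mono ?_ h1
    rintro _ ⟨_, ⟨r, t, hr, rfl⟩, rfl⟩
    exact ⟨r, _, hr, C.G.fmap_xu _ r t⟩
  constructor <;> rintro _ ⟨y, hy, rfl⟩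
  · show fmap D (τ.toRingHom : K →+* K) (y : GL D.Idx K) ∈ D.posUnipotent K
    have hy' : (y : GL D.Idx K) ∈ D.posUnipotent K := hy
    rw [C.G.posUnipotent_eq_closure] at hy' ⊢
    exact key _ _ hy'
  · show fmap D (τ.toRingHom : K →+* K) (y : GL D.Idx K) ∈ D.negUnipotent K
    have hy' : (y : GL D.Idx K) ∈ D.negUnipotent K := hy
    rw [C.G.negUnipotent_eq_closure] at hy' ⊢
    exact key _ _ hy'

/-- a field automorphism which is inner-diagonal is trivial -/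
theorem fieldG_eq_one (hbig : ∃ k, Q.F k = ⊤) {τ : RingAut K} {x : ↥Γ} {c : ↥(parGrp T)}
    (he : Q.fieldGHom τ = MulAut.conj x * Q.torGHom c) :
    τ = 1 ∧ C.G.tor c.1 ∈ D.diagonalSubgroup K ⊓ Γ := by
  haveI : Finite (GL D.Idx K) := inferInstance
  have hxeq : MulAut.conj x = Q.fieldGHom τ * (Q.torGHom c)⁻¹ := by rw [he, mul_inv_cancel_right]
  have hfix : ∀ X : Subgroup ↥Γ, X.map (Q.fieldGHom τ).toMonoidHom ≤ X →
      X.map (Q.torGHom c⁻¹).toMonoidHom ≤ X → x ∈ Subgroup.normalizer (X : Set ↥Γ) := by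
    intro X h1 h2
    have h3 : X.map (MulAut.conj x).toMonoidHom = X := by
      refine map_eq_of_le _ _ ?_
      rw [hxeq, ← map_inv]
      rintro _ ⟨y, hy, rfl⟩
      exact h1 ⟨_, h2 ⟨y, hy, rfl⟩, rfl⟩
    rw [Subgroup.mem_normalizer_iff]
    intro y
    constructor
    · intro hy; exact h3 ▸ ⟨y, hy, rfl⟩
    · intro hy
      rw [← h3] at hy
      obtain ⟨z, hz, e⟩ := hy
      have : z = y := (MulAut.conj x).injective e
      exact this ▸ hz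
  have hxU := hfix _ (Q.fieldG_preserves τ).1 (Q.torG_preserves c⁻¹).1
  have hxV := hfix _ (Q.fieldG_preserves τ).2 (Q.torG_preserves c⁻¹).2
  rw [P.normalizer_gU] at hxU
  have hxH : x ∈ P.gH := by
    rw [← P.gB_inf_normalizer_gV]; exact ⟨hxU, hxV⟩
  obtain ⟨c₀, hc₀⟩ := C.G.exists_tor (show (x : GL D.Idx K) ∈ D.diagonalSubgroup K from hxH)
  have hc0 : c₀ ∈ parGrp T := Q.tor_mem_parGrp (hc₀ ▸ x.2)
  have hφ : Q.fieldGHom τ = Q.torGHom (⟨c₀, hc0⟩ * c) := by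
    rw [he, map_mul]
    congr 1
    exact MulEquiv.ext fun g => Subtype.ext (by
      show (x : GL D.Idx K) * (g : GL D.Idx K) * (x : GL D.Idx K)⁻¹ =
        C.G.tor c₀ * (g : GL D.Idx K) * (C.G.tor c₀)⁻¹
      rw [hc₀])
  have hk : ∀ i, c₀ i * c.1 i = 1 := by
    intro i
    obtain ⟨k, a, ha, rfl⟩ := Q.cover i
    have e := congrArg (fun ψ : MulAut ↥Γ => ((ψ (Q.gX k 1) : ↥Γ) : GL D.Idx K)) hφ
    simp only [(Q.fieldG_gX τ k 1).1] at e
    have e' : C.pP (Q.L k) (τ (1 : K)) =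
        C.G.tor (c₀ * c.1) * C.pP (Q.L k) (1 : K) * (C.G.tor (c₀ * c.1))⁻¹ := e
    rw [map_one, C.tor_conj_pP, Full.pP] at e'
    have h1 := C.coeff_inj (Q.orth k) _ _ e' a ha
    rw [map_one, mul_one] at h1
    exact Units.ext h1.symm
  have hck : (⟨c₀, hc0⟩ : ↥(parGrp T)) * c = 1 := Subtype.ext (funext hk)
  rw [hck, map_one] at hφ
  refine ⟨?_, ?_⟩
  · obtain ⟨k, hk⟩ := hbig
    refine RingEquiv.ext fun t => ?_
    have e := DFunLike.congr_fun hφ (Q.gX k ⟨t, hk ▸ Subfield.mem_top t⟩)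
    rw [(Q.fieldG_gX τ k _).1] at e
    exact congrArg Subtype.val (Q.gX_inj k e)
  · have h1 : C.G.tor c.1 = (x : GL D.Idx K)⁻¹ := by
      rw [hc₀, eq_inv_iff_mul_eq_one, ← map_mul, mul_comm c.1]
      exact (congrArg (fun z => C.G.tor z) (funext hk : c₀ * c.1 = 1)).trans (map_one _)
    rw [h1]
    exact Subgroup.mem_inf.2 ⟨Subgroup.inv_mem _ hxH, Subgroup.inv_mem _ x.2⟩

/-- the outer automorphisms of the twisted group -/
theorem card_out [Fintype ι] (hbig : ∃ k, Q.F k = ⊤)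
    (hperm : ∀ (ψ : MulAut ↥Γ) (π : Equiv.Perm ι),
      (∀ k, (Q.gXs k).map ψ.toMonoidHom = Q.gXs (π k) ∧ (Q.gYs k).map ψ.toMonoidHom = Q.gYs (π k)) →
      π = 1)
    (hlink : ∀ (ψ : MulAut ↥Γ) (s : ∀ k, ↥(Q.F k) ≃+* ↥(Q.F k)), Q.IsStdG ψ s →
      ∃ τ : RingAut K, ∀ k (t : ↥(Q.F k)), ((s k t : ↥(Q.F k)) : K) = τ (t : K)) :
    Nat.card (Cfsg.Out ↥Γ) * Nat.card ↥(D.diagonalSubgroup K ⊓ Γ) =
      Nat.card ↥(parGrp T) * Nat.card (RingAut K) := by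
  classical
  set H0 : Subgroup ↥(parGrp T) :=
    (D.diagonalSubgroup K ⊓ Γ).comap (C.G.tor.comp (parGrp T).subtype)
  have hH : Nat.card ↥H0 = Nat.card ↥(D.diagonalSubgroup K ⊓ Γ) :=
    Nat.card_eq_of_bijective (fun c => (⟨C.G.tor c.1.1, c.2⟩ : ↥(D.diagonalSubgroup K ⊓ Γ)))
      ⟨fun a b h => Subtype.ext (Subtype.ext (by
        rw [← mul_inv_eq_one]
        refine C.G.tor_eq_one ?_
        rw [map_mul, map_inv, mul_inv_eq_one]
        exact congrArg Subtype.val h)),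
       fun g => by
        obtain ⟨c, hc⟩ := C.G.exists_tor g.2.1
        exact ⟨⟨⟨c, Q.tor_mem_parGrp (hc ▸ g.2.2)⟩, show C.G.tor c ∈ _ from hc ▸ g.2⟩,
          Subtype.ext hc.symm⟩⟩
  have hinner : ∀ c ∈ H0, Q.torGHom c ∈ Cfsg.Inn ↥Γ := fun c hc =>
    ⟨⟨_, hc.2⟩, MulEquiv.ext fun g => Subtype.ext rfl⟩
  let Ψ : (↥(parGrp T) ⧸ H0) × RingAut K → Cfsg.Out ↥Γ := fun p =>
    QuotientGroup.mk' (Cfsg.Inn ↥Γ) (Q.torGHom p.1.out * Q.fieldGHom p.2)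
  have hbij : Function.Bijective Ψ := by
    constructor
    · rintro ⟨a, τ⟩ ⟨b, τ'⟩ h
      simp only [Ψ] at h
      have h' : ((Q.torGHom a.out * Q.fieldGHom τ)⁻¹ * (Q.torGHom b.out * Q.fieldGHom τ')) ∈
          Cfsg.Inn ↥Γ := QuotientGroup.eq.1 h
      have h2 := Subgroup.Normal.conj_mem (Cfsg.innNormal ↥Γ) _ h' (Q.fieldGHom τ)
      obtain ⟨x, hx⟩ := h2
      obtain ⟨y, hy⟩ : Q.torGHom (b.out⁻¹ * a.out) * MulAut.conj x *
          (Q.torGHom (b.out⁻¹ * a.out))⁻¹ ∈ Cfsg.Inn ↥Γ :=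
        Subgroup.Normal.conj_mem (Cfsg.innNormal _) _ ⟨x, rfl⟩ _
      have he : Q.fieldGHom (τ' * τ⁻¹) = MulAut.conj y * Q.torGHom (b.out⁻¹ * a.out) := by
        rw [hy, inv_mul_cancel_right, hx, map_mul, map_mul, map_inv, map_inv]
        group
      obtain ⟨h1, h3⟩ := Q.fieldG_eq_one hbig he
      refine Prod.ext ?_ (mul_inv_eq_one.1 h1).symm
      rw [← a.out_eq, ← b.out_eq]
      exact (QuotientGroup.eq.2 h3).symm
    · intro q
      obtain ⟨θ, rfl⟩ := QuotientGroup.mk'_surjective _ q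
      obtain ⟨x, c, φ, s, hφ, rfl⟩ := Q.exists_stdG hperm θ
      obtain ⟨τ, hτ⟩ := hlink φ s hφ
      have hφτ : φ = Q.fieldGHom τ := Q.aut_ext fun k t => by
        rw [(hφ k t).1, (hφ k t).2, (Q.fieldG_gX τ k t).1, (Q.fieldG_gX τ k t).2]
        constructor <;> congr 1 <;> exact Subtype.ext (hτ k t)
      refine ⟨(QuotientGroup.mk c, τ), ?_⟩
      obtain ⟨h, hh⟩ := QuotientGroup.mk_out_eq_mul H0 c
      show QuotientGroup.mk' _ (Q.torGHom (QuotientGroup.mk c : _ ⧸ H0).out * Q.fieldGHom τ) = _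
      rw [hh, hφτ]
      simp only [map_mul]
      have h1 : QuotientGroup.mk' (Cfsg.Inn ↥Γ) (Q.torGHom h.1) = 1 :=
        (QuotientGroup.eq_one_iff _).2 (hinner _ h.2)
      have h2 : QuotientGroup.mk' (Cfsg.Inn ↥Γ) (MulAut.conj x) = 1 :=
        (QuotientGroup.eq_one_iff _).2 ⟨x, rfl⟩
      rw [h1, h2, mul_one, one_mul]
  rw [← Nat.card_congr (Equiv.ofBijective Ψ hbij), Nat.card_prod, ← hH,
    Subgroup.card_eq_card_quotient_mul_card_subgroup H0]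
  ring

end TwPar

end CfsgLib.Lie.Chev
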