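import Cfsg.Agent.Lib.Lie.Chev.Tw.Out.Par

/-!
# The permutation of the orbit subgroups under an automorphism fixing `U` and `V`
-/

set_option autoImplicit false
set_option maxHeartbeats 400000

namespace CfsgLib.Lie.Chev

open Cfsg.Lie
open scoped MatrixGroups

variable {D : ChevalleyDatum} {K : Type*} [Field K] {C : Full D} {T : Twist C.G K} {ι : Type}
  {O : Orbits C.G T.p ι} {Γ : Subgroup (GL D.Idx K)}

namespace TwPar

variable {P : TwGp O Γ} (Q : TwPar P)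

include Q in
theorem node_mem {k : ι} {j : Fin D.rank} (hj : j ∈ O.J k) : T.node j ∈ O.J k := by
  obtain ⟨k', a, ha, rfl⟩ := Q.cover j
  obtain rfl := O.disjoint k k' _ hj (Q.mem_L k' a ha)
  obtain ⟨b, hb, hb1, -⟩ := Q.compat _ a ha 0 (zero_mem _)
  exact hb1 ▸ Q.mem_L _ b hb

theorem wMax_eq : TwGp.wMax T = C.w0 := by
  have hW := (mem_Wp.1 (TwGp.wMax_mem T)).1
  refine (inv_mul_eq_one.1 (C.eq_one_of_pos (mul_mem (inv_mem C.w0_mem) hW) fun r hr => ?_)).symm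
  rw [Equiv.Perm.mul_apply, C.w0_inv_pos_iff, TwGp.wMax_pos_iff]
  exact not_not.2 hr

theorem tau_node {τ : Equiv.Perm (Fin D.rank)}
    (hτ : ∀ j, C.w0 (C.G.negr (C.G.simp' j)) = C.G.simp' (τ j)) (j : Fin D.rank) :
    T.node (τ j) = τ (T.node j) := by
  refine C.G.simp_injective ?_
  rw [← T.p_simp, ← hτ, ← hτ, ← T.p_simp, ← T.p_negr, ← wMax_eq (T := T)]
  exact DFunLike.congr_fun (mem_Wp.1 (TwGp.wMax_mem T)).2 _

theorem exists_tau_orbit [Finite ι] {τ : Equiv.Perm (Fin D.rank)}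
    (hτ : ∀ j, C.w0 (C.G.negr (C.G.simp' j)) = C.G.simp' (τ j)) (Q : TwPar P) :
    ∃ f : Equiv.Perm ι, ∀ k, ∀ j ∈ O.J k, τ j ∈ O.J (f k) := by
  have hpow : ∀ (n : ℕ) (j : Fin D.rank), (T.p ^ n) (C.G.simp' j) = C.G.simp' ((T.node ^ n) j) := by
    intro n j
    induction n with
    | zero => rfl
    | succ n ih => rw [pow_succ', pow_succ', Equiv.Perm.mul_apply, Equiv.Perm.mul_apply, ih, T.p_simp]
  have hmem : ∀ (k : ι) (j : Fin D.rank) (n : ℕ), j ∈ O.J k → (T.node ^ n) j ∈ O.J k := by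
    intro k j n hj
    induction n with
    | zero => exact hj
    | succ n ih => rw [pow_succ', Equiv.Perm.mul_apply]; exact Q.node_mem ih
  have hτn : ∀ (n : ℕ) (j : Fin D.rank), (T.node ^ n) (τ j) = τ ((T.node ^ n) j) := by
    intro n j
    induction n with
    | zero => rfl
    | succ n ih =>
      rw [pow_succ', Equiv.Perm.mul_apply, Equiv.Perm.mul_apply, ih, tau_node hτ]
  have hne : ∀ k, ∃ j, j ∈ O.J k := O.nonempty
  choose j0 hj0 using hne
  have hk : ∀ k, ∃ k', τ (j0 k) ∈ O.J k' := fun k => O.cover _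
  choose f hf using hk
  have hinj : Function.Injective f := by
    intro k k' e
    obtain ⟨n, hn⟩ := O.trans (f k) _ (hf k) _ (e ▸ hf k')
    rw [hpow] at hn
    have h1 := C.G.simp_injective hn
    rw [hτn] at h1
    exact O.disjoint k k' (j0 k') ((τ.injective h1) ▸ hmem k _ n (hj0 k)) (hj0 k')
  refine ⟨Equiv.ofBijective f (Finite.injective_iff_bijective.1 hinj), fun k j hj => ?_⟩
  obtain ⟨n, hn⟩ := O.trans k _ (hj0 k) _ hj
  rw [hpow] at hn
  rw [← C.G.simp_injective hn, ← hτn]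
  exact hmem _ _ n (hf k)

variable [Fintype K]

theorem exists_mMax_perm [Fintype ι] :
    ∃ f : Equiv.Perm ι, ∀ k, (Q.gYs k).map (MulAut.conj P.mMax).toMonoidHom = Q.gXs (f k) := by
  classical
  obtain ⟨τ, hτ⟩ := C.exists_tau
  obtain ⟨f, hf⟩ := exists_tau_orbit hτ Q
  have hle : ∀ k, (Q.gYs k).map (MulAut.conj P.mMax).toMonoidHom ≤ Q.gXs (f k) := by
    rintro k _ ⟨_, ⟨t, rfl⟩, rfl⟩
    refine Q.mem_gXs_iff.2 ⟨P.le (Subtype.prop _), ?_⟩
    show (P.mMax : GL D.Idx K) * C.pN (Q.L k) t * (P.mMax : GL D.Idx K)⁻¹ ∈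
      (Uinv C.G (O.wO (f k)) : Subgroup (GL D.Idx K))
    rw [Full.pN, ← MulAut.conj_apply, map_list_prod, List.map_map]
    refine list_prod_mem fun x hx => ?_
    obtain ⟨a, ha, rfl⟩ := List.mem_map.1 hx
    obtain ⟨c, hc⟩ := P.mMax_perm (C.G.negr (C.G.simp' a.1))
    rw [Function.comp_apply, MulAut.conj_apply, hc, wMax_eq, hτ]
    exact simp_mem_Uinv (hf k _ (Q.mem_L k a ha)) _
  have hcard : ∀ k, Nat.card ↥((Q.gYs k).map (MulAut.conj P.mMax).toMonoidHom) =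
      Nat.card ↥(Q.F k) := fun k =>
    (Nat.card_congr (Subgroup.equivMapOfInjective _ _ (MulAut.conj P.mMax).injective).toEquiv).symm.trans
      (Q.card_gYs k)
  have hmono : ∀ k, Nat.card ↥(Q.F k) ≤ Nat.card ↥(Q.F (f k)) := fun k => by
    rw [← hcard k, ← Q.card_gXs]
    exact Subgroup.card_le_of_le (hle k)
  have heq : ∀ k, Nat.card ↥(Q.F k) = Nat.card ↥(Q.F (f k)) := by
    by_contra hne
    simp only [not_forall] at hne
    obtain ⟨k, hk⟩ := hne
    have := Finset.sum_lt_sum (fun k (_ : k ∈ Finset.univ) => hmono k)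
      ⟨k, Finset.mem_univ _, lt_of_le_of_ne (hmono k) hk⟩
    rw [Equiv.sum_comp f fun k => Nat.card ↥(Q.F k)] at this
    exact lt_irrefl _ this
  exact ⟨f, fun k => Subgroup.eq_of_le_of_card_ge (hle k) (by rw [Q.card_gXs, hcard k, heq k])⟩

omit [Fintype K] in
theorem commute_of_ne {k l : ι} (hkl : k ≠ l) {x y : ↥Γ} (hx : x ∈ Q.gXs k) (hy : y ∈ Q.gYs l) :
    Commute x y := by
  obtain ⟨t, rfl⟩ := hx
  obtain ⟨u, rfl⟩ := hy
  refine Subtype.ext ?_
  show C.pP (Q.L k) (t : K) * C.pN (Q.L l) (u : K) = C.pN (Q.L l) (u : K) * C.pP (Q.L k) (t : K)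
  refine Commute.list_prod_left _ _ fun g hg => Commute.list_prod_right _ _ fun g' hg' => ?_
  obtain ⟨a, ha, rfl⟩ := List.mem_map.1 hg
  obtain ⟨b, hb, rfl⟩ := List.mem_map.1 hg'
  exact congrArg Subtype.val (C.commute_simp (i := a.1) (j := b.1)
    (fun e => hkl (O.disjoint k l a.1 (Q.mem_L k a ha) (e ▸ Q.mem_L l b hb))) _ _).eq

omit [Fintype K] in
theorem not_commute_self (k : ι) : ¬ Commute (Q.gX k 1) (Q.gY k 1) := by
  intro h
  have h' : C.pP (Q.L k) (1 : K) * C.pN (Q.L k) (1 : K) =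
      C.pN (Q.L k) (1 : K) * C.pP (Q.L k) (1 : K) := congrArg Subtype.val h.eq
  have e := C.pN_eq (Q.orth k) (1 : K)
  rw [inv_one] at e
  rw [e] at h'
  have h2 : C.pM (Q.L k) (-1 : K) * C.pP (Q.L k) 1 = C.pP (Q.L k) 1 * C.pM (Q.L k) (-1) := by
    have h3 := congrArg (fun z => (C.pP (Q.L k) (1 : K))⁻¹ * z * (C.pP (Q.L k) (1 : K))⁻¹) h'
    simp only [mul_assoc, inv_mul_cancel_left, mul_inv_cancel, mul_one] at h3
    exact h3.symm
  have h4 := C.pM_conj (Q.orth k) (neg_ne_zero.2 (one_ne_zero (α := K))) (1 : K)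
  rw [h2, mul_inv_cancel_right] at h4
  have h5 : Q.gX k 1 = Q.gY k (-1) := Subtype.ext (by
    show C.pP (Q.L k) (1 : K) = C.pN (Q.L k) (((-1 : ↥(Q.F k))) : K)
    rw [h4]
    simp [inv_neg])
  exact one_ne_zero (Q.eq_zero_of_gX_eq_gY h5).1

omit [Fintype K] in
theorem gXs_injective : Function.Injective Q.gXs := fun k l h => by
  by_contra hne
  exact Q.not_commute_self k
    (Q.commute_of_ne (Ne.symm hne) (h ▸ ⟨1, rfl⟩ : Q.gX k 1 ∈ Q.gXs l) ⟨1, rfl⟩)

/-- one permutation for both families of orbit subgroups -/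
theorem exists_perm_orbits [Fintype ι] (ψ : MulAut ↥Γ) (hU : P.gU.map ψ.toMonoidHom = P.gU)
    (hV : P.gV.map ψ.toMonoidHom = P.gV) :
    ∃ π : Equiv.Perm ι, ∀ k, (Q.gXs k).map ψ.toMonoidHom = Q.gXs (π k) ∧
      (Q.gYs k).map ψ.toMonoidHom = Q.gYs (π k) := by
  obtain ⟨π, hπ⟩ := Q.exists_gYs_perm ψ hU hV
  set m := MulAut.conj P.mMax
  have hm1 : ∀ X Y : Subgroup ↥Γ, X.map m.toMonoidHom = Y → Y.map m.symm.toMonoidHom = X := by
    rintro X _ rfl
    rw [Subgroup.map_map]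
    convert Subgroup.map_id _
    ext x; simp
  have hψ' : ∀ X Y : Subgroup ↥Γ, X.map ψ.toMonoidHom = Y →
      (X.map m.symm.toMonoidHom).map ((m.trans ψ).trans m.symm).toMonoidHom =
        Y.map m.symm.toMonoidHom := by
    rintro X _ rfl
    rw [Subgroup.map_map, Subgroup.map_map]
    congr 1
    ext x
    simp
  have hU' : P.gU.map ((m.trans ψ).trans m.symm).toMonoidHom = P.gU := by
    have h := hψ' _ _ hV
    rwa [hm1 _ _ P.map_gU] at h
  have hV' : P.gV.map ((m.trans ψ).trans m.symm).toMonoidHom = P.gV := by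
    have h := hψ' _ _ hU
    rwa [hm1 _ _ P.map_gV] at h
  obtain ⟨π', hπ'⟩ := Q.exists_gYs_perm _ hU' hV'
  obtain ⟨f, hf⟩ := Q.exists_mMax_perm
  have hX : ∀ k, (Q.gXs k).map ψ.toMonoidHom = Q.gXs (f (π' (f.symm k))) := by
    intro k
    have h0 : (Q.gYs (f.symm k)).map m.toMonoidHom = Q.gXs k :=
      (hf _).trans (congrArg Q.gXs (f.apply_symm_apply k))
    rw [← hf (π' (f.symm k)), ← hπ', ← h0, Subgroup.map_map, Subgroup.map_map]
    congr 1
    ext x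
    simp [m, mul_assoc]
  refine ⟨π, fun k => ⟨?_, hπ k⟩⟩
  suffices h : f (π' (f.symm k)) = π k by rw [hX, h]
  by_contra hne
  refine Q.not_commute_self k ?_
  have h1 : ψ (Q.gX k 1) ∈ Q.gXs (f (π' (f.symm k))) := hX k ▸ ⟨_, ⟨1, rfl⟩, rfl⟩
  have h2 : ψ (Q.gY k 1) ∈ Q.gYs (π k) := hπ k ▸ ⟨_, ⟨1, rfl⟩, rfl⟩
  have h3 := (Q.commute_of_ne hne h1 h2).map ψ.symm.toMonoidHom
  simpa using h3

end TwPar

end CfsgLib.Lie.Chev
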